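import Cfsg.Agent.E8Three.ToralMain
import Cfsg.Agent.Chev.GoodAll
import Cfsg.Agent.Chev.InvolData

/-!
A separating cocharacter for the root system of type `E₈`, and the toral theorem for `E₈(3)`.
-/

set_option autoImplicit false
set_option linter.style.haveILetI false

namespace CfsgLib.E8Three

open Cfsg.Lie CfsgLib.Chev CfsgLib.Chev.Tab Matrix

/-- The cocharacter with values `13^j` on the fundamental roots. -/
def lamE8 : Fin chevE8.rank → ℤ := fun k =>
  ((List.range 8).map fun j => (InvolData.invE8.getD k.val []).getD j 0 * 13 ^ j).sum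

/-- The values of the cocharacter. -/
def lamVals : List ℤ :=
  (List.range chevE8.nroots).map fun r =>
    ((List.finRange chevE8.rank).map fun k => E8Data.tab.cart k.val r * lamE8 k).sum

theorem lamVals_ok : (lamVals.all (fun a => a != 0) && decide lamVals.Nodup) = true := by
  decide +kernel

theorem sepE8 : chkSep E8Data.tab lamE8 := by
  have h := lamVals_ok
  simp only [Bool.and_eq_true, decide_eq_true_eq, List.all_eq_true, bne_iff_ne] at h
  have hval : ∀ r : Fin chevE8.nroots, E8Data.tab.wrow r.val ⬝ᵥ lamE8 =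
      ((List.finRange chevE8.rank).map fun k => E8Data.tab.cart k.val r.val * lamE8 k).sum :=
    fun r => Fin.sum_univ_def _
  refine ⟨fun r => ?_, fun r s e => ?_⟩
  · rw [hval]
    exact h.1 _ (List.mem_map.mpr ⟨r.val, List.mem_range.mpr r.isLt, rfl⟩)
  · rw [hval, hval] at e
    exact Fin.ext (List.inj_on_of_nodup_map h.2 (List.mem_range.mpr r.isLt)
      (List.mem_range.mpr s.isLt) e)

/-- An element of order prime to 3 of `E₈(3)` is conjugate into the torus over a
finite extension. -/
theorem toralE8 {m : ℕ} (hm : ¬ 3 ∣ m) {x : GL chevE8.Idx (ZMod 3)}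
    (hx : x ∈ chevE8.group (ZMod 3)) (hxm : x ^ m = 1) :
    ∃ (F : Type) (_ : Field F) (_ : Fintype F) (f : ZMod 3 →+* F),
      ∃ a ∈ chevE8.group F, ∃ c, a * glMap chevE8 f x * a⁻¹ = E8Data.tab.hT F c := by
  haveI : Fact (Nat.Prime 3) := ⟨Nat.prime_three⟩
  exact toral good_E8 3 InvolData.scE8 sepE8 hm hx hxm

end CfsgLib.E8Three
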