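import Cfsg.Agent.E8Three.Toral

/-!
Elements of order prime to the characteristic from the characteristic are conjugate into the torus over a
finite extension of the field.
-/

set_option autoImplicit false
set_option linter.style.haveILetI false

namespace CfsgLib.E8Three

open Cfsg.Lie CfsgLib.Chev CfsgLib.Chev.Tab Matrix

variable {D : ChevalleyDatum} {T : Tab D} (G : T.Good)
include G

theorem levi_le_diag {F : Type*} [Field F] {J : Set ℕ}
    (h : ∀ r, r ∉ posJ T J) : D.leviSubgroup F J ≤ D.diagonalSubgroup F := by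
  refine G.levi_le_iff le_rfl fun r hr t => absurd hr fun hr => ?_
  by_cases hp : IsPos D r
  · exact h r ⟨hp, hr⟩
  · exact h (negR D r) ⟨(G.pos_negF (s := ⟨r, hr.1⟩)).mpr hp, G.inJ_negR hr⟩

theorem toral_aux (p : ℕ) [Fact p.Prime] {M₀ : List (List ℤ)}
    (hM₀ : T.chkSC M₀ = true) {lam : Fin D.rank → ℤ} (hlam : chkSep T lam) {m : ℕ}
    (hmp : ¬ p ∣ m) :
    ∀ (n : ℕ) (K : Type) [Field K] [Fintype K] [CharP K p] (J : Set ℕ),
      Nat.card (posJ T J) = n → ∀ x ∈ D.leviSubgroup K J, x ^ m = 1 →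
        ∃ (F : Type) (_ : Field F) (_ : Fintype F) (f : K →+* F),
          ∃ a ∈ D.group F, a * glMap D f x * a⁻¹ ∈ D.diagonalSubgroup F := by
  intro n
  induction n using Nat.strong_induction_on with
  | _ n ih =>
    intro K _ _ _ J hn x hx hxm
    by_cases hne : ∀ s, s ∉ posJ T J
    · refine ⟨K, inferInstance, inferInstance, RingHom.id K, 1, one_mem _, ?_⟩
      rw [show glMap D (RingHom.id K) x = x from Units.ext (Matrix.ext fun _ _ => rfl),
        one_mul, inv_one, mul_one]
      exact levi_le_diag G hne hx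
    simp only [not_forall, not_not] at hne
    obtain ⟨s, hs⟩ := hne
    obtain ⟨i, hi⟩ := G.exists_cor_ne_zero (F := ℚ) hs.1.1
    have hiJ : i.val ∈ J := by
      by_contra h
      rw [hs.2.2 i h] at hi
      simp at hi
    obtain ⟨C, hC⟩ := descend_toral G p hM₀ hlam hiJ (show 0 < m from Nat.pos_of_ne_zero fun e => hmp (by rw [e]; exact dvd_zero p))
    let F₀ := FiniteField.Extension K p (C + 1)
    letI : Fintype F₀ := Fintype.ofFinite F₀
    let f₀ : K →+* F₀ := algebraMap K F₀
    haveI : CharP F₀ p := charP_of_injective_ringHom f₀.injective p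
    have hcard : C < Fintype.card F₀ := by
      rw [← Nat.card_eq_fintype_card, FiniteField.natCard_extension]
      exact (Nat.lt_succ_self C).trans (Nat.lt_pow_self Finite.one_lt_card)
    set x₀ := glMap D f₀ x
    have hx₀ : x₀ ∈ D.leviSubgroup F₀ J := glMap_levi G f₀ hx
    have hxm₀ : x₀ ^ m = 1 := by rw [← map_pow, hxm, map_one]
    obtain ⟨F₁, hF, hF', f₁, a, ha, J', hJ', hmem⟩ :
        ∃ (F : Type) (_ : Field F) (_ : Fintype F) (f : F₀ →+* F),
          ∃ a ∈ D.group F, ∃ J', Nat.card (posJ T J') < Nat.card (posJ T J) ∧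
            a * glMap D f x₀ * a⁻¹ ∈ D.leviSubgroup F J' := by
      by_cases hu : ∃ u ∈ D.leviSubgroup F₀ J, x₀ * u = u * x₀ ∧ orderOf u = p
      · obtain ⟨u, hu, hc, hup⟩ := hu
        obtain ⟨a, ha, J', hJ', hmem⟩ := descend_p G p hmp hx₀ hxm₀ hu
          (fun e => (Fact.out : p.Prime).ne_one (by rw [← hup, e, orderOf_one])) (j := 1)
          (by rw [pow_one]; exact orderOf_dvd_iff_pow_eq_one.mp hup.dvd) hc
        exact ⟨F₀, inferInstance, inferInstance, RingHom.id F₀, a, ha, J', hJ', by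
          rwa [show glMap D (RingHom.id F₀) x₀ = x₀ from Units.ext (Matrix.ext fun _ _ => rfl)]⟩
      · simp only [not_exists, not_and] at hu
        exact hC F₀ hcard x₀ hx₀ hxm₀ hu
    haveI : CharP F₁ p := charP_of_injective_ringHom f₁.injective p
    obtain ⟨F₂, _, _, f₂, b, hb, hd⟩ := ih _ (hn ▸ hJ') F₁ J' rfl _ hmem (by
      rw [conj_pow, ← map_pow, hxm₀, map_one, mul_one, mul_inv_cancel])
    refine ⟨F₂, inferInstance, inferInstance, f₂.comp (f₁.comp f₀), b * glMap D f₂ a,
      mul_mem hb (G.glMap_group f₂ ha), ?_⟩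
    rw [← glMap_comp, ← glMap_comp]
    simp only [map_mul, map_inv] at hd
    rw [_root_.mul_inv_rev]
    simpa only [mul_assoc] using hd

/-- An element of order prime to the characteristic is conjugate into the torus over
a finite extension. -/
theorem toral (p : ℕ) [Fact p.Prime] {M₀ : List (List ℤ)}
    (hM₀ : T.chkSC M₀ = true) {lam : Fin D.rank → ℤ} (hlam : chkSep T lam) {m : ℕ}
    (hmp : ¬ p ∣ m) {K : Type} [Field K] [Fintype K] [CharP K p]
    {x : GL D.Idx K} (hx : x ∈ D.group K) (hxm : x ^ m = 1) :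
    ∃ (F : Type) (_ : Field F) (_ : Fintype F) (f : K →+* F),
      ∃ a ∈ D.group F, ∃ c, a * glMap D f x * a⁻¹ = T.hT F c := by
  obtain ⟨F, _, _, f, a, ha, h⟩ :=
    toral_aux G p hM₀ hlam hmp _ K Set.univ rfl x (group_le_levi_univ G hx) hxm
  rw [G.full.diagonal_eq_range] at h
  obtain ⟨c, hc⟩ := h
  exact ⟨F, inferInstance, inferInstance, f, a, ha, c, hc.symm⟩

end CfsgLib.E8Three
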