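import Cfsg.Agent.E8Three.Cell
import Cfsg.Agent.Chev.TorusSign

/-!
Sylow subgroups of Levi factors away from the characteristic, and bounds for subgroups without
large toral elements.
-/

set_option autoImplicit false
set_option linter.style.haveILetI false

namespace CfsgLib.E8Three

open Cfsg.Lie CfsgLib.Chev CfsgLib.Chev.Tab Matrix

/-- A finite group whose `r`-subgroups are small modulo a subgroup is small modulo it. -/
theorem card_le_of_local {C : Type*} [Group C] [Finite C] (Z : Subgroup C) {E B : ℕ} (hE : E ≠ 0)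
    (h : ∀ r : ℕ, r.Prime → r ∣ Nat.card C → ∀ R : Subgroup C, IsPGroup r R →
      Nat.card R ≤ B * Nat.card (R ⊓ Z : Subgroup C))
    (hB : 0 < B)
    (hsmall : ∀ r : ℕ, r.Prime → r ∣ Nat.card C → ¬ r ∣ E → ∀ R : Subgroup C, IsPGroup r R → R ≤ Z) :
    Nat.card C ≤ Nat.card Z * B ^ E.primeFactors.card := by
  classical
  set i := Z.index with hi
  have hi0 : i ≠ 0 := Subgroup.index_ne_zero_of_finite
  have hC : Nat.card Z * i = Nat.card C := Z.card_mul_index
  have key : ∀ r ∈ i.primeFactors, r ^ i.factorization r ≤ B ∧ r ∈ E.primeFactors := by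
    intro r hr
    have hrp := Nat.prime_of_mem_primeFactors hr
    have hri := Nat.dvd_of_mem_primeFactors hr
    haveI := Fact.mk hrp
    obtain ⟨R⟩ : Nonempty (Sylow r C) := inferInstance
    have hR : Nat.card R = r ^ ((Nat.card Z).factorization r + i.factorization r) := by
      rw [R.card_eq_multiplicity, ← hC, Nat.factorization_mul Nat.card_pos.ne' hi0]
      rfl
    obtain ⟨k, hk⟩ := IsPGroup.iff_card.mp
      (R.isPGroup'.to_le (inf_le_left : (R : Subgroup C) ⊓ Z ≤ R))
    have hkz : k ≤ (Nat.card Z).factorization r :=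
      (hrp.pow_dvd_iff_le_factorization Nat.card_pos.ne').mp
        (hk ▸ Subgroup.card_dvd_of_le (inf_le_right : (R : Subgroup C) ⊓ Z ≤ Z))
    have hpos : 0 < i.factorization r := hrp.factorization_pos_of_dvd hi0 hri
    refine ⟨?_, ?_⟩
    · have hle : Nat.card R ≤ B * Nat.card ((R : Subgroup C) ⊓ Z : Subgroup C) :=
        h r hrp (hri.trans ⟨_, by rw [← hC, mul_comm]⟩) R R.isPGroup'
      rw [hR, hk, pow_add] at hle
      refine Nat.le_of_mul_le_mul_right ?_ (pow_pos hrp.pos k)
      calc r ^ i.factorization r * r ^ k ≤ r ^ i.factorization r * r ^ (Nat.card Z).factorization r :=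
            Nat.mul_le_mul_left _ (Nat.pow_le_pow_right hrp.pos hkz)
        _ = r ^ (Nat.card Z).factorization r * r ^ i.factorization r := mul_comm _ _
        _ ≤ B * r ^ k := hle
    · refine Nat.mem_primeFactors.mpr ⟨hrp, ?_, hE⟩
      by_contra hn
      have hRZ := hsmall r hrp (hri.trans ⟨_, by rw [← hC, mul_comm]⟩) hn R R.isPGroup'
      have : (r ^ ((Nat.card Z).factorization r + i.factorization r)) ∣ Nat.card Z :=
        hR ▸ Subgroup.card_dvd_of_le hRZ
      have := (hrp.pow_dvd_iff_le_factorization Nat.card_pos.ne').mp this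
      omega
  calc Nat.card C = Nat.card Z * i := hC.symm
    _ ≤ Nat.card Z * B ^ E.primeFactors.card := by
        refine Nat.mul_le_mul_left _ ?_
        calc i = ∏ r ∈ i.primeFactors, r ^ i.factorization r :=
              (Nat.prod_factorization_pow_eq_self hi0).symm
          _ ≤ ∏ _r ∈ i.primeFactors, B := Finset.prod_le_prod' fun r hr => (key r hr).1
          _ = B ^ i.primeFactors.card := Finset.prod_const _
          _ ≤ B ^ E.primeFactors.card :=
              Nat.pow_le_pow_right hB (Finset.card_le_card fun r hr => (key r hr).2)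

variable {D : ChevalleyDatum} {T : Tab D}

/-- The monomial elements of a Levi factor. -/
def mJ (T : Tab D) (H : T.Full) (K : Type*) [Field K] (J : Set ℕ) : Subgroup (GL D.Idx K) :=
  Subgroup.closure ((D.diagonalSubgroup K : Set (GL D.Idx K)) ∪
    {g | ∃ i : Fin D.rank, i.val ∈ J ∧ g = H.ns K i})

variable (G : T.Good) {K : Type*} [Field K]
include G

theorem chi_inJ {J : Set ℕ} {c : Fin D.rank → Kˣ}
    (h : ∀ i : Fin D.rank, i.val ∈ J → T.chi (F := K) (D.simple i) c = 1) {r : ℕ}
    (hr : T.InJ J r) : T.chi (F := K) r c = 1 := by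
  have key : ∀ {s : ℕ}, IsPos D s → T.InJ J s → T.chi (F := K) s c = 1 := fun hs hJ =>
    G.inJ_induction (P := fun s => T.chi (F := K) s c = 1) (fun i hi => h i hi)
      (fun l s hl hs _ ih => by
        rw [G.full.chi_reflT l.isLt hs.1, ih, h l hl, _root_.one_zpow, mul_one]) hs hJ
  by_cases hp : IsPos D r
  · exact key hp hr
  · have h1 := key ((G.pos_negF (s := ⟨r, hr.1⟩)).mpr hp) (G.inJ_negR hr)
    have e : T.chi (F := K) (negR D r) c = (T.chi (F := K) r c)⁻¹ := by
      simp only [chi, MonoidHom.coe_mk, OneHom.coe_mk]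
      rw [← Finset.prod_inv_distrib]
      refine Finset.prod_congr rfl fun i _ => ?_
      have := (G.full.cert.isAdd_wt i.isLt).neg r hr.1
      rw [T.wt_root hr.1, T.wt_root (Cert.negR_lt hr.1)] at this
      rw [this, _root_.zpow_neg]
    exact inv_eq_one.mp (e.symm.trans h1)

theorem diag_le_mJ (J : Set ℕ) : D.diagonalSubgroup K ≤ mJ T G.full K J :=
  fun _ hg => Subgroup.subset_closure (Or.inl hg)

theorem mJ_le_monomial (J : Set ℕ) : mJ T G.full K J ≤ D.monomialSubgroup K := by
  refine (Subgroup.closure_le _).mpr ?_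
  rintro g (hg | ⟨i, -, rfl⟩)
  · exact G.diagonal_le_monomial hg
  · exact G.ns_mem_monomial i

theorem mJ_le_levi (J : Set ℕ) : mJ T G.full K J ≤ D.leviSubgroup K J := by
  refine (Subgroup.closure_le _).mpr ?_
  rintro g (hg | ⟨i, hi, rfl⟩)
  · exact Subgroup.mem_sup_left hg
  · exact G.ns_mem_levi hi

theorem nw_mem_mJ {J : Set ℕ} {L : List (Fin D.rank)} (hL : ∀ j ∈ L, j.val ∈ J) :
    G.full.nw K L ∈ mJ T G.full K J :=
  list_prod_mem fun a ha => by
    obtain ⟨i, hi, rfl⟩ := List.mem_map.mp ha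
    exact Subgroup.subset_closure (Or.inr ⟨i, hL i hi, rfl⟩)

theorem mJ_act {J : Set ℕ} {g : GL D.Idx K} (hg : g ∈ mJ T G.full K J) :
    ∃ σ ∈ G.full.WJ (jList D J), G.full.RootAct g σ := by
  induction hg using Subgroup.closure_induction with
  | mem g hg =>
    rcases hg with hg | ⟨i, hi, rfl⟩
    · have hg' : g ∈ (T.hT K).range := by rw [← G.full.diagonal_eq_range]; exact hg
      obtain ⟨c, rfl⟩ := hg'
      exact ⟨1, one_mem _, G.rootAct_hT c⟩
    · exact ⟨_, G.refl_mem (mem_jList.mpr ⟨i.isLt, hi⟩), G.rootAct_ns i⟩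
  | one => exact ⟨1, one_mem _, G.rootAct_one⟩
  | mul a b _ _ ha hb =>
    obtain ⟨σ, hσ, h1⟩ := ha
    obtain ⟨τ, hτ, h2⟩ := hb
    exact ⟨σ * τ, mul_mem hσ hτ, G.rootAct_mul h1 h2⟩
  | inv a hm ha =>
    obtain ⟨σ, hσ, h1⟩ := ha
    obtain ⟨L, hL⟩ := G.exists_rootAct (inv_mem (mJ_le_monomial G J hm))
    have h3 := G.rootAct_mul hL h1
    rw [inv_mul_cancel] at h3
    have e := G.rootAct_unique h3 G.rootAct_one
    rw [mul_eq_one_iff_eq_inv] at e
    exact ⟨σ⁻¹, inv_mem hσ, e ▸ hL⟩

/-- The permutation of the roots induced by a monomial element. -/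
noncomputable def permHom (J : Set ℕ) : mJ T G.full K J →* Equiv.Perm (Fin D.nroots) :=
  MonoidHom.mk' (fun g => (mJ_act G g.2).choose) fun a b =>
    G.rootAct_unique (mJ_act G (a * b).2).choose_spec.2
      (G.rootAct_mul (mJ_act G a.2).choose_spec.2 (mJ_act G b.2).choose_spec.2)

theorem permHom_ker {J : Set ℕ} {g : mJ T G.full K J} (h : permHom G J g = 1) :
    (g : GL D.Idx K) ∈ D.diagonalSubgroup K := by
  refine G.mem_diagonal_of_pos (mJ_le_monomial G J g.2) (mJ_act G g.2).choose_spec.2 fun s hs => ?_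
  rw [show (mJ_act G g.2).choose = 1 from h]
  exact hs

theorem card_mJ [Fintype K] (J : Set ℕ) : Nat.card (mJ T G.full K J) =
    Nat.card (D.diagonalSubgroup K) * Nat.card (G.full.WJ (jList D J)) := by
  have hr : (permHom G (K := K) J).range = G.full.WJ (jList D J) := by
    refine le_antisymm ?_ fun σ hσ => ?_
    · rintro _ ⟨g, rfl⟩
      exact (mJ_act G g.2).choose_spec.1
    · obtain ⟨L, hLJ, rfl⟩ := G.exists_word_WJ hσ
      refine ⟨⟨_, nw_mem_mJ G (K := K) fun j hj => (mem_jList.mp (hLJ j hj)).2⟩, ?_⟩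
      exact G.rootAct_unique (mJ_act G (nw_mem_mJ G (K := K) fun j hj =>
        (mem_jList.mp (hLJ j hj)).2)).choose_spec.2 (G.rootAct_nw L)
  have hk : Nat.card (permHom G (K := K) J).ker = Nat.card (D.diagonalSubgroup K) := by
    refine Nat.card_congr
      { toFun := fun g => ⟨g.1.1, permHom_ker G g.2⟩
        invFun := fun d => ⟨⟨d.1, diag_le_mJ G J d.2⟩, ?_⟩
        left_inv := fun g => rfl
        right_inv := fun d => rfl }
    have hd : (d : GL D.Idx K) ∈ (T.hT K).range := by rw [← G.full.diagonal_eq_range]; exact d.2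
    obtain ⟨c, hc⟩ := hd
    refine G.rootAct_unique (mJ_act G (diag_le_mJ G J d.2)).choose_spec.2 ?_
    show G.full.RootAct (d : GL D.Idx K) 1
    rw [← hc]
    exact G.rootAct_hT c
  rw [← (permHom G (K := K) J).ker.card_mul_index, Subgroup.index_ker, hk, hr]

/-- For a prime dividing `q - 1` enough, the monomial elements contain a Sylow subgroup. -/
theorem conj_into_mJ [Fintype K] (J : Set ℕ) {r : ℕ} [Fact r.Prime] {e : ℕ}
    (he : (Nat.card (G.full.WJ (jList D J))).factorization r < e)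
    (hq : (Fintype.card K : ZMod (r ^ e)) = 1) {R : Subgroup (GL D.Idx K)}
    (hRL : R ≤ D.leviSubgroup K J) (hR : IsPGroup r R) :
    ∃ a ∈ D.leviSubgroup K J, ∀ s ∈ R, a * s * a⁻¹ ∈ mJ T G.full K J := by
  classical
  set Lv := D.leviSubgroup K J
  set M := (mJ T G.full K J).subgroupOf Lv
  have hrp : r.Prime := Fact.out
  have hW0 : Nat.card (G.full.WJ (jList D J)) ≠ 0 := Nat.card_pos.ne'
  have hcardM : Nat.card M =
      Nat.card (D.diagonalSubgroup K) * Nat.card (G.full.WJ (jList D J)) := by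
    rw [← card_mJ G J]
    exact Nat.card_congr (Subgroup.subgroupOfEquivOfLe (mJ_le_levi G J)).toEquiv
  have hidx : ¬ r ∣ M.index := by
    intro hd
    have h1 := M.card_mul_index
    rw [hcardM, card_levi G J, mul_assoc, mul_assoc] at h1
    have h2 := Nat.eq_of_mul_eq_mul_left Nat.card_pos h1
    set v := (Nat.card (G.full.WJ (jList D J))).factorization r
    have h3 : r ^ (v + 1) ∣ Fintype.card K ^ Nat.card (posJ T J) *
        G.full.poly (jList D J) (Fintype.card K) := by
      rw [← h2, pow_succ]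
      exact Nat.mul_dvd_mul (Nat.ordProj_dvd _ _) hd
    rw [← ZMod.natCast_eq_zero_iff] at h3
    have hq' : (Fintype.card K : ZMod (r ^ (v + 1))) = 1 := by
      have := congrArg (ZMod.castHom (pow_dvd_pow r (show v + 1 ≤ e by omega))
        (ZMod (r ^ (v + 1)))) hq
      rwa [map_natCast, map_one] at this
    rw [Nat.cast_mul, Nat.cast_pow, hq', one_pow, one_mul, Full.poly, Nat.cast_sum] at h3
    simp only [Nat.cast_pow, hq', one_pow, Finset.sum_const, nsmul_eq_mul, mul_one] at h3
    rw [ZMod.natCast_eq_zero_iff, ← Fintype.card_subtype, ← Nat.card_eq_fintype_card] at h3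
    have := (hrp.pow_dvd_iff_le_factorization hW0).mp h3
    omega
  obtain ⟨P0⟩ : Nonempty (Sylow r M) := inferInstance
  have hP : Nat.card (P0.1.map M.subtype) = r ^ (Nat.card Lv).factorization r := by
    rw [Subgroup.card_map_of_injective M.subtype_injective, P0.card_eq_multiplicity,
      ← M.card_mul_index, Nat.factorization_mul Nat.card_pos.ne' Subgroup.index_ne_zero_of_finite,
      Finsupp.add_apply, Nat.factorization_eq_zero_of_not_dvd hidx, add_zero]
  let P : Sylow r Lv := Sylow.ofCard _ hP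
  have hRp : IsPGroup r (R.subgroupOf Lv) :=
    hR.of_equiv (Subgroup.subgroupOfEquivOfLe hRL).symm
  obtain ⟨Q, hQ⟩ := hRp.exists_le_sylow
  obtain ⟨a, ha⟩ := MulAction.exists_smul_eq Lv Q P
  refine ⟨a, a.2, fun s hs => ?_⟩
  have hsQ : (⟨s, hRL hs⟩ : Lv) ∈ (Q : Subgroup Lv) := hQ (Subgroup.mem_subgroupOf.mpr hs)
  have h4 : a * ⟨s, hRL hs⟩ * a⁻¹ ∈ ((a • Q : Sylow r Lv) : Subgroup Lv) := by
    rw [Sylow.coe_subgroup_smul, Subgroup.mem_smul_pointwise_iff_exists]
    exact ⟨_, hsQ, rfl⟩
  rw [ha] at h4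
  obtain ⟨z, -, hz⟩ : ∃ z ∈ P0.1, M.subtype z = a * ⟨s, hRL hs⟩ * a⁻¹ := h4
  have h5 := z.2
  rw [Subgroup.mem_subgroupOf] at h5
  have h6 := congrArg Subtype.val hz
  rw [← show ((z : Lv) : GL D.Idx K) = a * s * (a : GL D.Idx K)⁻¹ from h6]
  exact h5

/-- A subgroup conjugate into the monomial elements without large toral elements is small. -/
theorem card_le_of_exponent [Fintype K] {M₀ : List (List ℤ)} (hM₀ : T.chkSC M₀ = true)
    (J : Set ℕ) {E : ℕ} (hE : E ≠ 0) {R : Subgroup (GL D.Idx K)} {a : GL D.Idx K}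
    (ha : a ∈ D.leviSubgroup K J) (hconj : ∀ s ∈ R, a * s * a⁻¹ ∈ mJ T G.full K J)
    (hexp : ∀ s ∈ R, ∀ c, a * s * a⁻¹ = T.hT K c →
      ∀ i : Fin D.rank, i.val ∈ J → T.chi (F := K) (D.simple i) c ^ E = 1) :
    Nat.card R ≤ Fintype.card (Equiv.Perm (Fin D.nroots)) * E ^ D.rank *
      Nat.card (R ⊓ zJ T K J : Subgroup (GL D.Idx K)) := by
  classical
  have hinj : Function.Injective (T.hT K) := (injective_iff_map_eq_one _).mpr fun a ha =>
    G.sc_hT_inj hM₀ ha
  let ι : R →* mJ T G.full K J :=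
    ((MulAut.conj a).toMonoidHom.comp R.subtype).codRestrict _ fun s => hconj s s.2
  let f := (permHom G J).comp ι
  have hidx : f.ker.index ≤ Fintype.card (Equiv.Perm (Fin D.nroots)) := by
    rw [Subgroup.index_ker, ← Nat.card_eq_fintype_card]
    exact Subgroup.card_le_card_group _
  have hdiag : ∀ s : f.ker, ∃ c, a * ((s : R) : GL D.Idx K) * a⁻¹ = T.hT K c := fun s => by
    have h := permHom_ker G (g := ι s.1) s.2
    rw [G.full.diagonal_eq_range] at h
    obtain ⟨c, hc⟩ := h
    exact ⟨c, hc.symm⟩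
  choose c hc using hdiag
  let χ : f.ker →* (Fin D.rank → Kˣ) := MonoidHom.mk'
    (fun s i => if i.val ∈ J then T.chi (F := K) (D.simple i) (c s) else 1) fun s t => by
      have e : c (s * t) = c s * c t := hinj (by
        rw [map_mul, ← hc, ← hc, ← hc]
        simp only [Subgroup.coe_mul]
        group)
      funext i
      simp only [Pi.mul_apply, e, map_mul]
      split_ifs <;> simp
  have hrange : Nat.card χ.range ≤ E ^ D.rank := by
    haveI : NeZero E := ⟨hE⟩
    refine le_trans (Nat.card_le_card_of_injective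
      (fun v : χ.range => fun i : Fin D.rank => (⟨v.1 i, ?_⟩ : rootsOfUnity E K)) ?_) ?_
    · obtain ⟨s, hs⟩ := v.2
      rw [mem_rootsOfUnity, ← hs]
      show (if i.val ∈ J then T.chi (F := K) (D.simple i) (c s) else 1) ^ E = 1
      split_ifs with hi
      · exact hexp _ s.1.2 _ (hc s) i hi
      · exact one_pow E
    · intro v w e
      exact Subtype.ext (funext fun i => congrArg Subtype.val (congrFun e i))
    · rw [Nat.card_fun, Nat.card_fin]
      refine Nat.pow_le_pow_left ?_ _
      exact card_rootsOfUnity K E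
  have hker : Nat.card χ.ker ≤ Nat.card (R ⊓ zJ T K J : Subgroup (GL D.Idx K)) := by
    refine Nat.card_le_card_of_injective
      (fun s => ⟨((s.1.1 : R) : GL D.Idx K), Subgroup.mem_inf.mpr ⟨s.1.1.2, ?_⟩⟩) ?_
    · have hz : a * ((s.1.1 : R) : GL D.Idx K) * a⁻¹ ∈ zJ T K J := by
        refine ⟨c s.1, fun r hr => chi_inJ G (fun i hi => ?_) hr, (hc s.1).symm⟩
        have := congrFun s.2 i
        simpa [χ, hi] using this
      have e : ((s.1.1 : R) : GL D.Idx K) = a * ((s.1.1 : R) : GL D.Idx K) * a⁻¹ :=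
        calc ((s.1.1 : R) : GL D.Idx K)
            = a⁻¹ * (a * ((s.1.1 : R) : GL D.Idx K) * a⁻¹ * a) := by group
          _ = a⁻¹ * (a * (a * ((s.1.1 : R) : GL D.Idx K) * a⁻¹)) := by rw [zJ_comm G hz ha]
          _ = _ := by group
      exact e ▸ hz
    · intro s t e
      exact Subtype.ext (Subtype.ext (Subtype.ext (congrArg Subtype.val e :)))
  calc Nat.card R = Nat.card f.ker * f.ker.index := f.ker.card_mul_index.symm
    _ ≤ Nat.card f.ker * Fintype.card (Equiv.Perm (Fin D.nroots)) := Nat.mul_le_mul_left _ hidx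
    _ = Nat.card χ.ker * χ.ker.index * Fintype.card (Equiv.Perm (Fin D.nroots)) := by
        rw [χ.ker.card_mul_index]
    _ ≤ Nat.card (R ⊓ zJ T K J : Subgroup (GL D.Idx K)) * E ^ D.rank *
          Fintype.card (Equiv.Perm (Fin D.nroots)) := by
        rw [Subgroup.index_ker]
        exact Nat.mul_le_mul_right _ (Nat.mul_le_mul hker hrange)
    _ = _ := by ring

end CfsgLib.E8Three
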