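import Cfsg.Agent.E8Three.LeviCells
import Cfsg.Agent.Chev.EllipticTorus

/-!
A lower bound on centralisers in Levi factors: the trace is not constant on the big cell.
-/

set_option autoImplicit false
set_option linter.style.haveILetI false

namespace CfsgLib.E8Three

open Cfsg.Lie CfsgLib.Chev CfsgLib.Chev.Tab Matrix

variable {D : ChevalleyDatum} {T : Tab D}

/-- A cocharacter which separates the roots. -/
def chkSep (T : Tab D) (lam : Fin D.rank → ℤ) : Prop :=
  (∀ r : Fin D.nroots, T.wrow r.val ⬝ᵥ lam ≠ 0) ∧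
    ∀ r s : Fin D.nroots, T.wrow r.val ⬝ᵥ lam = T.wrow s.val ⬝ᵥ lam → r = s

/-- The part of the torus centralising a Levi factor. -/
def zJ (T : Tab D) (K : Type*) [Field K] (J : Set ℕ) : Subgroup (GL D.Idx K) where
  carrier := {z | ∃ c, (∀ r, T.InJ J r → T.chi (F := K) r c = 1) ∧ T.hT K c = z}
  one_mem' := ⟨1, fun r _ => map_one _, map_one _⟩
  mul_mem' := by
    rintro _ _ ⟨c, hc, rfl⟩ ⟨d, hd, rfl⟩
    exact ⟨c * d, fun r hr => by rw [map_mul, hc r hr, hd r hr, one_mul], map_mul _ _ _⟩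
  inv_mem' := by
    rintro _ ⟨c, hc, rfl⟩
    exact ⟨c⁻¹, fun r hr => by rw [map_inv, hc r hr, inv_one], map_inv _ _⟩

/-- The elements of a Levi factor commuting with `x` up to the centre. -/
def cStar (T : Tab D) (K : Type*) [Field K] (J : Set ℕ) (x : GL D.Idx K) : Set (GL D.Idx K) :=
  {s | s ∈ D.leviSubgroup K J ∧ s * x * s⁻¹ * x⁻¹ ∈ zJ T K J}

variable (G : T.Good) {K : Type*} [Field K]
include G

theorem fPres_levi {J : Set ℕ} {g : GL D.Idx K} (hg : g ∈ D.leviSubgroup K J) :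
    FPres (G.fJ J) (g : Matrix D.Idx D.Idx K) ∧
      FPres (G.fJ J) ((g⁻¹ : GL D.Idx K) : Matrix D.Idx D.Idx K) := by
  let S : Subgroup (GL D.Idx K) :=
    { carrier := {g | FPres (G.fJ J) (g : Matrix D.Idx D.Idx K) ∧
        FPres (G.fJ J) ((g⁻¹ : GL D.Idx K) : Matrix D.Idx D.Idx K)}
      one_mem' := by
        have : FPres (G.fJ J) ((1 : GL D.Idx K) : Matrix D.Idx D.Idx K) := fun x y hxy => by
          rw [Units.val_one, Matrix.one_apply_ne fun e => hxy (by rw [e])]
        exact ⟨this, by rwa [inv_one]⟩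
      mul_mem' := fun {a b} ha hb => by
        refine ⟨?_, ?_⟩
        · rw [Units.val_mul]; exact ha.1.mul hb.1
        · rw [_root_.mul_inv_rev, Units.val_mul]; exact hb.2.mul ha.2
      inv_mem' := fun {a} ha => ⟨ha.2, by rw [inv_inv]; exact ha.1⟩ }
  have hd : ∀ h ∈ D.diagonalSubgroup K, FPres (G.fJ J) ((h : GL D.Idx K) : Matrix D.Idx D.Idx K) := by
    intro h hh x y hxy
    rw [G.full.diagonal_eq_range] at hh
    obtain ⟨c, rfl⟩ := hh
    rw [T.coe_hT, Matrix.diagonal_apply_ne _ fun e => hxy (by rw [e])]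
  exact (show D.leviSubgroup K J ≤ S from G.levi_le_iff (fun h hh => ⟨hd h hh, hd _ (inv_mem hh)⟩)
    fun r hr t => ⟨G.fPres_x hr t, by rw [G.full.x_inv]; exact G.fPres_x hr _⟩) hg

theorem inJ_of_fJ {J : Set ℕ} {r : ℕ} (hr : r < D.nroots) (h : G.fJ J r = 0) : T.InJ J r := by
  by_cases hp : IsPos D r
  · exact (inJ_iff_fJ G hp).mpr h
  · have hp' : IsPos D (negR D r) := (G.pos_negF (s := ⟨r, hr⟩)).mpr hp
    have h2 : T.InJ J (negR D r) := (inJ_iff_fJ G hp').mpr (by
      rw [(G.fJ_isAdd J).neg r hr, h, neg_zero])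
    have h3 := G.inJ_negR h2
    rwa [negR_eq, negR_eq, show D.nroots - 1 - (D.nroots - 1 - r) = r by omega] at h3

theorem zJ_le_torus (J : Set ℕ) : zJ T K J ≤ D.diagonalSubgroup K := by
  rw [G.full.diagonal_eq_range]
  rintro _ ⟨c, -, rfl⟩
  exact ⟨c, rfl⟩

theorem zJ_le_levi (J : Set ℕ) : zJ T K J ≤ D.leviSubgroup K J := by
  rintro _ ⟨c, -, rfl⟩
  exact hT_mem_levi G J c

theorem zJ_comm {J : Set ℕ} {z y : GL D.Idx K} (hz : z ∈ zJ T K J)
    (hy : y ∈ D.leviSubgroup K J) : z * y = y * z := by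
  obtain ⟨c, hc, rfl⟩ := hz
  have h : D.leviSubgroup K J ≤ Subgroup.centralizer ({T.hT K c} : Set (GL D.Idx K)) := by
    refine G.levi_le_iff ?_ fun r hr t => ?_
    · rw [G.full.diagonal_eq_range]
      rintro _ ⟨d, rfl⟩
      rw [Subgroup.mem_centralizer_singleton_iff, ← map_mul, ← map_mul, mul_comm]
    · rw [Subgroup.mem_centralizer_singleton_iff]
      have e := G.full.hT_conj hr.1 c t
      rw [hc r hr, Units.val_one, one_mul, mul_inv_eq_iff_eq_mul] at e
      exact e.symm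
  exact (Subgroup.mem_centralizer_singleton_iff.mp (h hy)).symm

theorem exists_longest_WJ (J : Set ℕ) : ∃ L : List (Fin D.rank), (∀ j ∈ L, j.val ∈ jList D J) ∧
    ∀ s : Fin D.nroots, s.val ∈ posJ T J → ¬ IsPos D (G.full.pw L s).val := by
  classical
  let W : Finset (Equiv.Perm (Fin D.nroots)) :=
    Finset.univ.filter fun σ => σ ∈ G.full.WJ (jList D J)
  obtain ⟨σ, hσ, hmax⟩ := W.exists_max_image (fun σ => (invSet σ).card)
    ⟨1, Finset.mem_filter.mpr ⟨Finset.mem_univ _, one_mem _⟩⟩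
  obtain ⟨L, hLJ, rfl⟩ := G.exists_word_WJ (Finset.mem_filter.mp hσ).2
  refine ⟨L, hLJ, fun s hs hpos => ?_⟩
  have hW := (Finset.mem_filter.mp hσ).2
  obtain ⟨l, hl, hlp⟩ : ∃ l : Fin D.rank, l.val ∈ J ∧
      IsPos D (G.full.pw L (G.full.simp' l)).val := by
    by_contra hc
    push Not at hc
    obtain ⟨j, hj⟩ := G.exists_cor_ne_zero (F := ℚ) (G.full.pw L s).isLt
    have hle : ∀ j : Fin D.rank, T.cor (G.full.pw L s) j ≤ 0 := fun j => by
      rw [G.cor_linear hW]
      refine Finset.sum_nonpos fun l _ => ?_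
      by_cases hlJ : l.val ∈ J
      · exact mul_nonpos_of_nonneg_of_nonpos ((G.pos_iff_cor s.isLt).mp hs.1 l)
          ((G.cor_sign (Fin.isLt _) j.isLt).2 fun h => hc l hlJ ⟨Fin.isLt _, h⟩)
      · rw [hs.2.2 l hlJ, zero_mul]
    have := le_antisymm (hle j) ((G.pos_iff_cor (Fin.isLt _)).mp hpos j)
    exact hj (by rw [this]; simp)
  have h1 := G.inv_mul_refl hlp
  have h2 : G.full.pw (L ++ [l]) ∈ W := Finset.mem_filter.mpr ⟨Finset.mem_univ _, by
    rw [G.pw_append, G.pw_singleton]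
    exact mul_mem hW (G.refl_mem (mem_jList.mpr ⟨l.isLt, hl⟩))⟩
  exact absurd (hmax _ h2) (not_le_of_gt h1)

theorem flip_longest {J : Set ℕ} {σ : Equiv.Perm (Fin D.nroots)}
    (hW : σ ∈ G.full.WJ (jList D J))
    (h : ∀ s : Fin D.nroots, s.val ∈ posJ T J → ¬ IsPos D (σ s).val) :
    flipSet σ = posJ T J :=
  Set.Subset.antisymm (flip_subset_posJ G hW) fun s hs => ⟨hs.1.1, hs.1, h ⟨s, hs.1.1⟩ hs⟩

theorem invSet_le {J : Set ℕ} {σ : Equiv.Perm (Fin D.nroots)}
    (hW : σ ∈ G.full.WJ (jList D J)) : (invSet σ).card ≤ Nat.card (posJ T J) := by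
  haveI := finite_rootSet (D := D) (S := posJ T J) fun r hr => hr.1
  rw [← G.invSet_card]
  exact Nat.card_mono (Set.toFinite _) (flip_subset_posJ G hW)

theorem eq_longest {J : Set ℕ} {σ τ : Equiv.Perm (Fin D.nroots)}
    (hσ : σ ∈ G.full.WJ (jList D J)) (hτ : τ ∈ G.full.WJ (jList D J))
    (hcard : (invSet σ).card = Nat.card (posJ T J))
    (h : ∀ s : Fin D.nroots, s.val ∈ posJ T J → ¬ IsPos D (τ s).val) : σ = τ := by
  haveI := finite_rootSet (D := D) (S := posJ T J) fun r hr => hr.1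
  have hflip : flipSet σ = posJ T J :=
    Set.eq_of_subset_of_ncard_le (flip_subset_posJ G hσ) (le_of_eq (by
      rw [← Nat.card_coe_set_eq, ← Nat.card_coe_set_eq, G.invSet_card, hcard])) (Set.toFinite _)
  have hρW : τ⁻¹ * σ ∈ G.full.WJ (jList D J) := mul_mem (inv_mem hτ) hσ
  obtain ⟨L, -, hL⟩ := G.exists_word_WJ hρW
  have hpos : ∀ s, IsPos D s.val → IsPos D (G.full.pw L s).val := by
    intro s hs
    rw [hL]
    by_contra hn
    have hsJ := flip_subset_posJ G hρW s ⟨s.isLt, hs, hn⟩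
    set b := (τ⁻¹ * σ) s with hb
    have e : σ s = τ b := by simp [hb]
    have hneg : ¬ IsPos D (σ s).val := by
      have : s.val ∈ flipSet σ := by rw [hflip]; exact hsJ
      obtain ⟨_, _, h3⟩ := this
      exact h3
    have hbJ : T.InJ J b.val := ⟨b.isLt, fun j hj => by
      rw [hb, G.cor_out hρW s fun hm => hj (mem_jList.mp hm).2]
      exact hsJ.2.2 j hj⟩
    have hnb : (negF b).val ∈ posJ T J :=
      ⟨G.pos_negF.mpr hn, G.inJ_negR hbJ⟩
    have h2 := h (negF b) hnb
    rw [G.negF_WJ hτ, G.pos_negF, not_not, ← e] at h2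
    exact hneg h2
  obtain ⟨c, hc⟩ := G.nw_mem_torus (F := ℚ) _ L rfl hpos
  have e1 : G.full.pw L = 1 := by
    have := G.pw_eq_of_nw (F := ℚ) (L' := []) (c := c) (L := L) (by rw [hc]; simp [Full.nw])
    simpa [Full.pw] using this
  rw [e1, eq_comm, inv_mul_eq_one] at hL
  exact hL.symm

theorem poly_bound [Fintype K] (J : Set ℕ) {L : List (Fin D.rank)}
    (hLJ : ∀ j ∈ L, j.val ∈ jList D J)
    (hL : ∀ s : Fin D.nroots, s.val ∈ posJ T J → ¬ IsPos D (G.full.pw L s).val) :
    Fintype.card K ^ Nat.card (posJ T J) ≤ G.full.poly (jList D J) (Fintype.card K) ∧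
    Fintype.card K * G.full.poly (jList D J) (Fintype.card K) ≤
      (Fintype.card K + Fintype.card (Equiv.Perm (Fin D.nroots))) *
        Fintype.card K ^ Nat.card (posJ T J) := by
  classical
  set q := Fintype.card K
  set N := Nat.card (posJ T J)
  set W : Finset (Equiv.Perm (Fin D.nroots)) :=
    Finset.univ.filter fun σ => σ ∈ G.full.WJ (jList D J) with hW
  have hσ0 : G.full.pw L ∈ W := Finset.mem_filter.mpr ⟨Finset.mem_univ _,
    list_prod_mem fun σ hσ => by
      obtain ⟨i, hi, rfl⟩ := List.mem_map.mp hσ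
      exact G.refl_mem (hLJ i hi)⟩
  have hN : (invSet (G.full.pw L)).card = N := by
    rw [← G.invSet_card, flip_longest G (Finset.mem_filter.mp hσ0).2 hL]
  have hpoly : G.full.poly (jList D J) q = q ^ N + ∑ σ ∈ W.erase (G.full.pw L),
      q ^ (invSet σ).card := by
    rw [Full.poly, ← Finset.add_sum_erase _ _ hσ0, hN]
  refine ⟨by rw [hpoly]; exact Nat.le_add_right _ _, ?_⟩
  rw [hpoly, mul_add, add_mul, Finset.mul_sum]
  refine Nat.add_le_add_left ((Finset.sum_le_card_nsmul _ _ (q ^ N) fun σ hσ => ?_).trans ?_) _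
  · obtain ⟨hne, hσW⟩ := Finset.mem_erase.mp hσ
    have hW' := (Finset.mem_filter.mp hσW).2
    have hlt : (invSet σ).card < N := lt_of_le_of_ne (invSet_le G hW') fun e =>
      hne (eq_longest G hW' (Finset.mem_filter.mp hσ0).2 e hL)
    rw [← pow_succ']
    exact Nat.pow_le_pow_right Fintype.card_pos hlt
  · rw [smul_eq_mul]
    exact Nat.mul_le_mul_right _ ((Finset.card_le_univ _))


omit G in
/-- The trace on the degree-zero part of the grading of a Levi factor. -/
noncomputable def tr0 (f : ℕ → ℤ) (M : Matrix D.Idx D.Idx K) : K :=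
  ∑ b ∈ Finset.univ.filter (fun b : D.Idx => f (code b) = 0), M b b

omit G in
theorem tr0_mul_comm {f : ℕ → ℤ} {A B : Matrix D.Idx D.Idx K} (hA : FPres f A) (hB : FPres f B) :
    tr0 f (A * B) = tr0 f (B * A) := by
  classical
  have key : ∀ (A B : Matrix D.Idx D.Idx K), FPres f A → tr0 f (A * B) =
      ∑ b ∈ Finset.univ.filter (fun b : D.Idx => f (code b) = 0),
        ∑ c ∈ Finset.univ.filter (fun b : D.Idx => f (code b) = 0), A b c * B c b := by
    intro A B hA
    refine Finset.sum_congr rfl fun b hb => ?_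
    rw [Matrix.mul_apply]
    refine (Finset.sum_subset (Finset.subset_univ _) fun c _ hc => ?_).symm
    rw [hA b c, zero_mul]
    rw [(Finset.mem_filter.mp hb).2]
    exact fun e => hc (Finset.mem_filter.mpr ⟨Finset.mem_univ _, e.symm⟩)
  rw [key A B hA, key B A hB, Finset.sum_comm]
  exact Finset.sum_congr rfl fun b _ => Finset.sum_congr rfl fun c _ => mul_comm _ _

theorem tr0_conj {J : Set ℕ} {x y : GL D.Idx K} (hx : x ∈ D.leviSubgroup K J)
    (hy : y ∈ D.leviSubgroup K J) :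
    tr0 (G.fJ J) ((y * x * y⁻¹ : GL D.Idx K) : Matrix D.Idx D.Idx K) =
      tr0 (G.fJ J) (x : Matrix D.Idx D.Idx K) := by
  rw [Units.val_mul, tr0_mul_comm (fPres_levi G (mul_mem hy hx)).1 (fPres_levi G hy).2,
    ← Units.val_mul, inv_mul_cancel_left]

theorem tr0_hT (J : Set ℕ) (c : Fin D.rank → Kˣ) (M : Matrix D.Idx D.Idx K) :
    tr0 (G.fJ J) (((T.hT K c : GL D.Idx K) : Matrix D.Idx D.Idx K) * M) =
      ∑ b ∈ Finset.univ.filter (fun b : D.Idx => G.fJ J (code b) = 0),
        Sum.elim (fun _ => (1 : K)) (fun s : Fin D.nroots => (T.chi s.val c : K)) b * M b b :=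
  Finset.sum_congr rfl fun b _ => by rw [T.coe_hT, Matrix.diagonal_mul]

theorem tr0_mul_zJ {J : Set ℕ} {A z : GL D.Idx K} (hA : A ∈ D.leviSubgroup K J)
    (hz : z ∈ zJ T K J) :
    tr0 (G.fJ J) ((A * z : GL D.Idx K) : Matrix D.Idx D.Idx K) =
      tr0 (G.fJ J) (A : Matrix D.Idx D.Idx K) := by
  rw [← zJ_comm G hz hA, Units.val_mul]
  obtain ⟨c, hc, rfl⟩ := hz
  rw [tr0_hT G J c]
  refine Finset.sum_congr rfl fun b hb => ?_
  rcases b with i | r
  · simp
  · have h := inJ_of_fJ G r.isLt (by simpa [code_inr] using (Finset.mem_filter.mp hb).2)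
    simp [hc r.val h]

theorem top_entry {J : Set ℕ} {r : Fin D.nroots} (hr : r.val ∈ posJ T J)
    (hmax : ∀ s ∈ posJ T J, T.ht s ≤ T.ht r.val) {u w : GL D.Idx K}
    (hu : u ∈ D.leviSubgroup K J) (hu1 : T.GrUni 1 (u : Matrix D.Idx D.Idx K))
    (hw1 : T.GrUni (-1) (w : Matrix D.Idx D.Idx K)) :
    ((w * u : GL D.Idx K) : Matrix D.Idx D.Idx K) (Sum.inr r) (Sum.inr r) = 1 := by
  have hpos : 0 < T.ht r.val := (G.pos_iff_ht r.isLt).mp hr.1
  have hgr : T.gr r.val = T.ht r.val := T.gr_root r.isLt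
  rw [Units.val_mul, Matrix.mul_apply, Finset.sum_eq_single (Sum.inr r)]
  · rw [hw1 _ _ le_rfl, hu1 _ _ le_rfl, Matrix.one_apply_eq, one_mul]
  · intro x _ hx
    by_cases hf : G.fJ J (code x) = G.fJ J r.val
    · have hle : T.gr (code x) ≤ T.gr r.val := by
        rw [G.fJ_inJ hr.2] at hf
        rcases x with i | s
        · rw [T.gr_h (by rw [code_inl]; omega), hgr]; exact hpos.le
        · rw [code_inr] at hf ⊢
          rw [hgr, T.gr_root s.isLt]
          by_cases hs : IsPos D s.val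
          · exact hmax _ ⟨hs, inJ_of_fJ G s.isLt hf⟩
          · have : ¬ 0 < T.ht s.val := fun h => hs ((G.pos_iff_ht s.isLt).mpr h)
            omega
      rw [hu1 x (Sum.inr r) (by simpa [code_inr] using hle), Matrix.one_apply_ne hx, mul_zero]
    · rw [(fPres_levi G hu).1 x (Sum.inr r) (by simpa [code_inr] using hf), mul_zero]
  · simp

omit G in
/-- The bound on the solutions of a torus equation. -/
def degBound (T : Tab D) (lam : Fin D.rank → ℤ) : ℕ :=
  ∑ r : Fin D.nroots, (T.wrow r.val ⬝ᵥ lam).natAbs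

theorem torus_bound [Fintype K] {lam : Fin D.rank → ℤ} (hlam : chkSep T lam) {J : Set ℕ}
    {r : Fin D.nroots} (hr : r.val ∈ posJ T J) (a : D.Idx → K) (ha : a (Sum.inr r) ≠ 0) (f0 : K) :
    Nat.card {c : Fin D.rank → Kˣ // (∑ b ∈ Finset.univ.filter
        (fun b : D.Idx => G.fJ J (code b) = 0),
        Sum.elim (fun _ => (1 : K)) (fun s : Fin D.nroots => (T.chi s.val c : K)) b * a b) = f0} *
      Nat.card Kˣ ≤ 2 * degBound T lam * Nat.card (Fin D.rank → Kˣ) := by
  classical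
  set B := Finset.univ.filter (fun b : D.Idx => G.fJ J (code b) = 0) with hB
  set A := {c : Fin D.rank → Kˣ // (∑ b ∈ B,
        Sum.elim (fun _ => (1 : K)) (fun s : Fin D.nroots => (T.chi s.val c : K)) b * a b) = f0}
  set M := degBound T lam with hM
  let e : D.Idx → ℤ := Sum.elim (fun _ => 0) fun s => T.wrow s.val ⬝ᵥ lam
  let coef : (Fin D.rank → Kˣ) → D.Idx → K := fun c b =>
    Sum.elim (fun _ => (1 : K)) (fun s : Fin D.nroots => (T.chi s.val c : K)) b * a b
  have hval : ∀ (c : Fin D.rank → Kˣ) (s : Kˣ) (b : D.Idx),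
      coef (c * Tab.Good.expo s lam) b = coef c b * ((s ^ e b : Kˣ) : K) := fun c s b => by
    rcases b with i | k
    · simp [coef, e]
    · simp only [coef, e, Sum.elim_inr]
      rw [map_mul, Tab.Good.chi_expo, Units.val_mul]
      ring
  have hbd : ∀ b, -(M : ℤ) ≤ e b ∧ e b ≤ M := by
    rintro (i | k)
    · simp [e]
    · have : (T.wrow k.val ⬝ᵥ lam).natAbs ≤ M :=
        Finset.single_le_sum (f := fun r : Fin D.nroots => (T.wrow r.val ⬝ᵥ lam).natAbs)
          (fun _ _ => Nat.zero_le _) (Finset.mem_univ k)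
      simp only [e, Sum.elim_inr]
      omega
  have hfib : ∀ c : Fin D.rank → Kˣ, Nat.card {s : Kˣ // (∑ b ∈ B,
      coef (c * Tab.Good.expo s lam) b) = f0} ≤ 2 * M := by
    intro c
    let P : Polynomial K := ∑ b ∈ B, Polynomial.C (coef c b) * Polynomial.X ^ (e b + M).toNat -
      Polynomial.C f0 * Polynomial.X ^ M
    have hrB : Sum.inr r ∈ B := Finset.mem_filter.mpr ⟨Finset.mem_univ _, by
      rw [code_inr, G.fJ_inJ hr.2]⟩
    have hco : P.coeff (e (Sum.inr r) + M).toNat = coef c (Sum.inr r) := by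
      simp only [P, Polynomial.coeff_sub, Polynomial.finset_sum_coeff, Polynomial.coeff_C_mul, Polynomial.coeff_X_pow]
      rw [Finset.sum_eq_single (Sum.inr r)]
      · rw [if_pos rfl, if_neg, mul_one, mul_zero, sub_zero]
        intro h
        have := hbd (Sum.inr r)
        exact hlam.1 r (show e (Sum.inr r) = 0 by omega)
      · intro b _ hb
        rw [if_neg, mul_zero]
        intro h
        have := hbd (Sum.inr r)
        have := hbd b
        have he : e (Sum.inr r) = e b := by omega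
        rcases b with i | k
        · exact hlam.1 r he
        · exact hb (by rw [hlam.2 r k he])
      · exact fun h => absurd hrB h
    have hP : P ≠ 0 := by
      intro h0
      rw [h0, Polynomial.coeff_zero] at hco
      have : coef c (Sum.inr r) ≠ 0 := mul_ne_zero (Units.ne_zero _) ha
      exact this hco.symm
    have hdeg : P.natDegree ≤ 2 * M := by
      refine (Polynomial.natDegree_sub_le _ _).trans (max_le ?_ ?_)
      · refine Polynomial.natDegree_sum_le_of_forall_le _ _ fun b _ => ?_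
        refine (Polynomial.natDegree_C_mul_X_pow_le _ _).trans ?_
        have := hbd b
        omega
      · exact (Polynomial.natDegree_C_mul_X_pow_le _ _).trans (by omega)
    rw [Nat.card_eq_fintype_card, Fintype.card_subtype]
    refine le_trans ?_ ((Polynomial.card_roots' P).trans hdeg)
    rw [← Finset.card_image_of_injective _ Units.val_injective]
    refine le_trans (Finset.card_le_card ?_) (Multiset.toFinset_card_le _)
    intro k hk
    obtain ⟨s, hs, rfl⟩ := Finset.mem_image.mp hk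
    have hs := (Finset.mem_filter.mp hs).2
    rw [Multiset.mem_toFinset, Polynomial.mem_roots hP, Polynomial.IsRoot.def]
    simp only [P, Polynomial.eval_sub, Polynomial.eval_finset_sum, Polynomial.eval_mul, Polynomial.eval_C, Polynomial.eval_pow, Polynomial.eval_X]
    rw [← hs, Finset.sum_mul, sub_eq_zero]
    refine Finset.sum_congr rfl fun b _ => ?_
    rw [hval, mul_assoc (coef c b)]
    congr 1
    rw [← Units.val_pow_eq_pow_val, ← Units.val_pow_eq_pow_val, ← Units.val_mul]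
    congr 1
    rw [← _root_.zpow_natCast, ← _root_.zpow_natCast, ← _root_.zpow_add]
    have := hbd b
    congr 1
    omega
  let E : A × Kˣ ≃ {p : (Fin D.rank → Kˣ) × Kˣ // (∑ b ∈ B, coef (p.1 * Tab.Good.expo p.2 lam) b) = f0} :=
    { toFun := fun p => ⟨(p.1.1 * (Tab.Good.expo p.2 lam)⁻¹, p.2), by
        rw [inv_mul_cancel_right]; exact p.1.2⟩
      invFun := fun p => (⟨p.1.1 * Tab.Good.expo p.1.2 lam, p.2⟩, p.1.2)
      left_inv := fun p => by simp
      right_inv := fun p => by simp }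
  let E' : {p : (Fin D.rank → Kˣ) × Kˣ // (∑ b ∈ B, coef (p.1 * Tab.Good.expo p.2 lam) b) = f0} ≃
      Σ c : Fin D.rank → Kˣ, {s : Kˣ // (∑ b ∈ B, coef (c * Tab.Good.expo s lam) b) = f0} :=
    { toFun := fun p => ⟨p.1.1, p.1.2, p.2⟩
      invFun := fun p => ⟨(p.1, p.2.1), p.2.2⟩
      left_inv := fun p => rfl
      right_inv := fun p => rfl }
  calc Nat.card A * Nat.card Kˣ = Nat.card (A × Kˣ) := by
        rw [Nat.card_prod]
    _ = ∑ c : Fin D.rank → Kˣ, Nat.card {s : Kˣ // (∑ b ∈ B, coef (c * Tab.Good.expo s lam) b) = f0} := by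
        rw [Nat.card_congr (E.trans E'), Nat.card_sigma]
    _ ≤ ∑ _c : Fin D.rank → Kˣ, 2 * M := Finset.sum_le_sum fun c _ => hfib c
    _ = 2 * M * Nat.card (Fin D.rank → Kˣ) := by
        rw [Finset.sum_const, smul_eq_mul, Finset.card_univ, Nat.card_eq_fintype_card, mul_comm]

set_option maxHeartbeats 1600000 in
/-- The centraliser modulo the centre grows with the field. -/
theorem cStar_large [Fintype K] {M₀ : List (List ℤ)} (hM₀ : T.chkSC M₀ = true)
    {lam : Fin D.rank → ℤ} (hlam : chkSep T lam) {J : Set ℕ} {i : Fin D.rank} (hi : i.val ∈ J)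
    {x : GL D.Idx K} (hx : x ∈ D.leviSubgroup K J) :
    (Fintype.card K - 1) * Nat.card (zJ T K J) ≤
      Nat.card (cStar T K J x) *
        (Fintype.card (Equiv.Perm (Fin D.nroots)) + 2 * degBound T lam) := by
  classical
  set q := Fintype.card K
  set N := Nat.card (posJ T J)
  set Lv := D.leviSubgroup K J
  set f0 := tr0 (G.fJ J) (x : Matrix D.Idx D.Idx K)
  have hinj : Function.Injective (T.hT K) := (injective_iff_map_eq_one _).mpr fun a ha =>
    G.sc_hT_inj hM₀ ha
  haveI := finite_rootSet (D := D) (S := posJ T J) fun r hr => hr.1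
  obtain ⟨r, hr, hmax⟩ := Set.exists_max_image (posJ T J) T.ht (Set.toFinite _)
    ⟨D.simple i, G.pos_simp i, G.inJ_simple.mpr hi⟩
  obtain ⟨L, hLJ, hL⟩ := exists_longest_WJ G J
  obtain ⟨hge, hle⟩ := poly_bound G (K := K) J hLJ hL
  set n := G.full.nw K L
  have hn : n ∈ Lv := nw_mem_levi G fun j hj => (mem_jList.mp (hLJ j hj)).2
  have hWL : G.full.pw L ∈ G.full.WJ (jList D J) := list_prod_mem fun σ hσ => by
    obtain ⟨i, hi, rfl⟩ := List.mem_map.mp hσ
    exact G.refl_mem (hLJ i hi)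
  have hflip := flip_longest G hWL hL
  let U := G.US K (posJ T J)
  -- the big cell
  let Φ : (U × U) × (Fin D.rank → Kˣ) → Lv := fun p =>
    ⟨p.1.1.1 * T.hT K p.2 * (n * p.1.2.1 * n⁻¹), mul_mem (mul_mem (US_posJ_le_levi G J p.1.1.2)
      (hT_mem_levi G J _)) (mul_mem (mul_mem hn (US_posJ_le_levi G J p.1.2.2)) (inv_mem hn))⟩
  have hΦ : Function.Injective Φ := by
    rintro ⟨⟨u, v⟩, c⟩ ⟨⟨u', v'⟩, c'⟩ e
    have e' : (u : GL D.Idx K) * T.hT K c * n * v = u' * T.hT K c' * n * v' := by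
      have := congrArg (fun g : Lv => (g : GL D.Idx K) * n) e
      simpa [Φ, mul_assoc] using this
    have hb : ∀ (u : U) c, (u : GL D.Idx K) * T.hT K c ∈ D.borelSubgroup K := fun u c =>
      mul_mem (Subgroup.mem_sup_left (US_le_pos G (fun s hs => hs.1) u.2)) (G.borel_hT c)
    have hv : ∀ v : U, (v : GL D.Idx K) ∈ G.US K (flipSet (G.full.pw L)) := fun v => by
      rw [hflip]; exact v.2
    obtain ⟨hb1, hu⟩ := (G.canonical_unique (hb u c) (hb u' c') (G.nw_mem_monomial L)
      (G.nw_mem_monomial L) (G.rootAct_nw L) (G.rootAct_nw L) (hv v) (hv v') e').2 rfl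
    obtain rfl : v = v' := Subtype.ext hu
    have hm : (u' : GL D.Idx K)⁻¹ * u ∈ D.posUnipotent K ⊓ D.diagonalSubgroup K := by
      refine Subgroup.mem_inf.mpr ⟨mul_mem (inv_mem (US_le_pos G (fun s hs => hs.1) u'.2))
        (US_le_pos G (fun s hs => hs.1) u.2), ?_⟩
      have : (u' : GL D.Idx K)⁻¹ * u = T.hT K c' * (T.hT K c)⁻¹ := by
        rw [eq_mul_inv_iff_mul_eq, mul_assoc, hb1, inv_mul_cancel_left]
      rw [this, G.full.diagonal_eq_range, ← map_inv, ← map_mul]
      exact ⟨_, rfl⟩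
    rw [G.pos_inf_diagonal, Subgroup.mem_bot, inv_mul_eq_one] at hm
    obtain rfl : u = u' := Subtype.ext hm.symm
    rw [hinj (mul_left_cancel hb1)]
  have hcardU : Nat.card U = q ^ N := by
    rw [G.card_US (closed_posJ G J), Nat.card_eq_fintype_card]
  have hcardT : Nat.card (D.diagonalSubgroup K) = Fintype.card (Fin D.rank → Kˣ) := by
    rw [G.full.diagonal_eq_range, ← Nat.card_eq_fintype_card]
    exact (Nat.card_congr (MonoidHom.ofInjective hinj).toEquiv).symm
  -- the bad points of the cell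
  let good : Set ((U × U) × (Fin D.rank → Kˣ)) :=
    {p | tr0 (G.fJ J) (((Φ p : Lv) : GL D.Idx K) : Matrix D.Idx D.Idx K) = f0}
  have hgood : Nat.card good * (q - 1) ≤
      2 * degBound T lam * Fintype.card (Fin D.rank → Kˣ) * q ^ N * q ^ N := by
    have hsig : Nat.card good = ∑ uv : U × U, Nat.card {c : Fin D.rank → Kˣ // (uv, c) ∈ good} := by
      rw [← Nat.card_sigma]
      exact Nat.card_congr ⟨fun p => ⟨p.1.1, p.1.2, p.2⟩, fun p => ⟨(p.1, p.2.1), p.2.2⟩,
        fun p => rfl, fun p => rfl⟩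
    rw [hsig, Finset.sum_mul]
    refine (Finset.sum_le_card_nsmul _ _ (2 * degBound T lam * Fintype.card (Fin D.rank → Kˣ))
      fun uv _ => ?_).trans (le_of_eq ?_)
    · set w := n * uv.2.1 * n⁻¹
      have hw : w ∈ Lv := mul_mem (mul_mem hn (US_posJ_le_levi G J uv.2.2)) (inv_mem hn)
      have huL : (uv.1.1 : GL D.Idx K) ∈ Lv := US_posJ_le_levi G J uv.1.2
      have hw1 : T.GrUni (-1) (w : Matrix D.Idx D.Idx K) := by
        refine G.grUni_US (S := {s | s < D.nroots ∧ ¬ IsPos D s}) (fun s hs => ⟨hs.1, ?_⟩) ?_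
        · have h1 : ¬ 0 < T.ht s := fun h => hs.2 ((G.pos_iff_ht hs.1).mpr h)
          have h2 : T.ht s ≠ 0 := fun h => by
            have h3 := (G.pos_iff_ht (Cert.negR_lt hs.1)).mp ((G.pos_negF (s := ⟨s, hs.1⟩)).mpr hs.2)
            rw [(G.full.cert.root_spec hs.1).2.2.1] at h3
            omega
          omega
        · exact G.conj_x_act (G.rootAct_nw L) (S := posJ T J)
            (S' := {s | s < D.nroots ∧ ¬ IsPos D s})
            (fun s hs => ⟨hs.1.1, Fin.isLt _, hL ⟨s, hs.1.1⟩ hs⟩) uv.2.2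
      have htr : ∀ c, tr0 (G.fJ J) (((Φ (uv, c) : Lv) : GL D.Idx K) : Matrix D.Idx D.Idx K) =
          ∑ b ∈ Finset.univ.filter (fun b : D.Idx => G.fJ J (code b) = 0),
            Sum.elim (fun _ => (1 : K)) (fun s : Fin D.nroots => (T.chi s.val c : K)) b *
              ((w * uv.1.1 : GL D.Idx K) : Matrix D.Idx D.Idx K) b b := fun c => by
        show tr0 (G.fJ J) ((uv.1.1 * T.hT K c * w : GL D.Idx K) : Matrix D.Idx D.Idx K) = _
        rw [mul_assoc, Units.val_mul, tr0_mul_comm (fPres_levi G huL).1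
          (fPres_levi G (mul_mem (hT_mem_levi G J c) hw)).1, ← Units.val_mul, mul_assoc,
          Units.val_mul, tr0_hT G J c]
      have hone := top_entry G (J := J) (r := ⟨r, hr.1.1⟩) hr hmax huL
        (G.grUni_pos (US_le_pos G (fun s hs => hs.1) uv.1.2)) hw1
      have hb := torus_bound G hlam (J := J) (r := ⟨r, hr.1.1⟩) hr
        (fun b => ((w * uv.1.1 : GL D.Idx K) : Matrix D.Idx D.Idx K) b b)
        (by rw [hone]; exact one_ne_zero) f0
      rw [Nat.card_units, Nat.card_eq_fintype_card (α := K),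
        Nat.card_eq_fintype_card (α := Fin D.rank → Kˣ)] at hb
      refine le_trans (le_of_eq ?_) hb
      congr 1
      refine Nat.card_congr (Equiv.subtypeEquivRight fun c => ?_)
      show tr0 (G.fJ J) (((Φ (uv, c) : Lv) : GL D.Idx K) : Matrix D.Idx D.Idx K) = f0 ↔ _
      rw [htr]
    · rw [Finset.card_univ, smul_eq_mul, Fintype.card_prod, ← Nat.card_eq_fintype_card (α := U),
        hcardU]
      ring
  -- the translates of the class
  let S : Set Lv := {g | tr0 (G.fJ J) ((g : GL D.Idx K) : Matrix D.Idx D.Idx K) = f0}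
  let ψ : Lv × zJ T K J → S := fun p => ⟨⟨p.1.1 * x * p.1.1⁻¹ * p.2.1,
    mul_mem (mul_mem (mul_mem p.1.2 hx) (inv_mem p.1.2)) (zJ_le_levi G J p.2.2)⟩, by
      show tr0 (G.fJ J) _ = f0
      rw [tr0_mul_zJ G (mul_mem (mul_mem p.1.2 hx) (inv_mem p.1.2)) p.2.2,
        tr0_conj G hx p.1.2]⟩
  have hfib : ∀ g : S, Nat.card {p // ψ p = g} ≤ Nat.card (cStar T K J x) := by
    intro g
    rcases isEmpty_or_nonempty {p // ψ p = g} with he | ⟨⟨p0, hp0⟩⟩
    · simp
    have hψ : ∀ p : {p // ψ p = g},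
        (p.1.1.1 : GL D.Idx K) * x * p.1.1.1⁻¹ * p.1.2.1 = p0.1.1 * x * p0.1.1⁻¹ * p0.2.1 :=
      fun p => congrArg (fun s : S => (s.1.1 : GL D.Idx K)) (p.2.trans hp0.symm)
    refine Nat.card_le_card_of_injective (fun p => (⟨p0.1.1⁻¹ * p.1.1.1,
      mul_mem (inv_mem p0.1.2) p.1.1.2, ?_⟩ : cStar T K J x)) ?_
    · have e := hψ p
      set y := (p.1.1.1 : GL D.Idx K)
      set y0 := (p0.1.1 : GL D.Idx K)
      set z := (p.1.2.1 : GL D.Idx K)
      set z0 := (p0.2.1 : GL D.Idx K)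
      have hc : z0 * z⁻¹ ∈ zJ T K J := mul_mem p0.2.2 (inv_mem p.1.2.2)
      have e2 : y * x * y⁻¹ = y0 * x * y0⁻¹ * (z0 * z⁻¹) := by
        rw [← mul_assoc, ← e, mul_inv_cancel_right]
      have : y0⁻¹ * y * x * (y0⁻¹ * y)⁻¹ * x⁻¹ = z0 * z⁻¹ := by
        calc y0⁻¹ * y * x * (y0⁻¹ * y)⁻¹ * x⁻¹ = y0⁻¹ * (y * x * y⁻¹) * y0 * x⁻¹ := by group
          _ = x * (y0⁻¹ * (z0 * z⁻¹) * y0) * x⁻¹ := by rw [e2]; group
          _ = z0 * z⁻¹ := by
            rw [mul_assoc y0⁻¹, zJ_comm G hc p0.1.2, inv_mul_cancel_left, ← zJ_comm G hc hx,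
              mul_inv_cancel_right]
      rw [this]
      exact hc
    · intro p p' e
      have ey : (p.1.1.1 : GL D.Idx K) = p'.1.1.1 := mul_left_cancel (congrArg Subtype.val e)
      have ez : (p.1.2.1 : GL D.Idx K) = p'.1.2.1 := by
        have := (hψ p).trans (hψ p').symm
        rw [ey] at this
        exact mul_left_cancel this
      exact Subtype.ext (Prod.ext (Subtype.ext ey) (Subtype.ext ez))
  have hLz : Nat.card Lv * Nat.card (zJ T K J) ≤ Nat.card (cStar T K J x) * Nat.card S := by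
    rw [← Nat.card_prod, Nat.card_congr (Equiv.sigmaFiberEquiv ψ).symm, Nat.card_sigma]
    refine (Finset.sum_le_card_nsmul _ _ _ fun g _ => hfib g).trans (le_of_eq ?_)
    rw [Finset.card_univ, smul_eq_mul, Nat.card_eq_fintype_card (α := S), mul_comm]
  have hS : Nat.card S + Nat.card ((U × U) × (Fin D.rank → Kˣ)) ≤
      Nat.card Lv + Nat.card good := by
    rw [← Nat.card_range_of_injective hΦ]
    have h1 : Nat.card good = Nat.card ↥(S ∩ Set.range Φ) := by
      have : S ∩ Set.range Φ = Φ '' good := by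
        ext g
        constructor
        · rintro ⟨hg, p, rfl⟩; exact ⟨p, hg, rfl⟩
        · rintro ⟨p, hp, rfl⟩; exact ⟨hp, p, rfl⟩
      rw [this, Nat.card_image_of_injective hΦ]
    rw [h1, Nat.card_coe_set_eq, Nat.card_coe_set_eq, Nat.card_coe_set_eq,
      ← Set.ncard_union_add_ncard_inter, ← Set.ncard_univ]
    exact Nat.add_le_add_right (Set.ncard_le_ncard (Set.subset_univ _)) _
  rw [card_levi G J, hcardT] at hLz hS
  rw [Nat.card_prod, Nat.card_prod, hcardU, Nat.card_eq_fintype_card (α := Fin D.rank → Kˣ)] at hS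
  set Tc := Fintype.card (Fin D.rank → Kˣ)
  set P := G.full.poly (jList D J) q
  set cP := Fintype.card (Equiv.Perm (Fin D.nroots))
  have hT0 : 0 < Tc * q ^ N * P := by
    have : 0 < q ^ N := pow_pos Fintype.card_pos _
    have : 0 < P := lt_of_lt_of_le this hge
    have : 0 < Tc := Fintype.card_pos
    positivity
  have hS' : (q - 1) * Nat.card S ≤ (cP + 2 * degBound T lam) * (Tc * q ^ N * P) := by
    have h2 : (q - 1) * (Tc * q ^ N * P) ≤
        (q - 1) * (q ^ N * q ^ N * Tc) + cP * (Tc * q ^ N * P) := by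
      have h3 : (q - 1) * P ≤ (q - 1) * q ^ N + cP * P := by
        obtain ⟨q', hq'⟩ : ∃ q', q = q' + 1 :=
          ⟨q - 1, (Nat.sub_add_cancel Fintype.card_pos).symm⟩
        have hsub : q - 1 = q' := by omega
        have hle' : q * P ≤ (q + cP) * q ^ N := hle
        have e1 : (q' + 1) * P ≤ (q' + 1 + cP) * q ^ N := by rw [← hq']; exact hle'
        have e2 := Nat.mul_le_mul_left cP hge
        rw [hsub]
        nlinarith [e1, e2, hge]
      calc (q - 1) * (Tc * q ^ N * P) = Tc * q ^ N * ((q - 1) * P) := by ring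
        _ ≤ Tc * q ^ N * ((q - 1) * q ^ N + cP * P) := Nat.mul_le_mul_left _ h3
        _ = _ := by ring
    have h5 : 2 * degBound T lam * Tc * q ^ N * q ^ N ≤
        2 * degBound T lam * (Tc * q ^ N * P) := by
      rw [mul_assoc (2 * degBound T lam * Tc), mul_assoc (2 * degBound T lam)]
      refine Nat.mul_le_mul_left _ ?_
      rw [← mul_assoc]
      exact Nat.mul_le_mul_left _ hge
    have h1 := Nat.mul_le_mul_left (q - 1) hS
    rw [mul_add, mul_add, mul_comm (q - 1) (Nat.card good)] at h1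
    rw [add_mul]
    linarith
  refine Nat.le_of_mul_le_mul_left ?_ hT0
  calc Tc * q ^ N * P * ((q - 1) * Nat.card (zJ T K J))
      = (q - 1) * (Tc * q ^ N * P * Nat.card (zJ T K J)) := by ring
    _ ≤ (q - 1) * (Nat.card (cStar T K J x) * Nat.card S) := Nat.mul_le_mul_left _ hLz
    _ = Nat.card (cStar T K J x) * ((q - 1) * Nat.card S) := by ring
    _ ≤ Nat.card (cStar T K J x) * ((cP + 2 * degBound T lam) * (Tc * q ^ N * P)) :=
        Nat.mul_le_mul_left _ hS'
    _ = _ := by ring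

end CfsgLib.E8Three
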