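import Cfsg.Agent.E8Three.Sylow

/-!
The centraliser in a Levi factor of a torus element with a small exponent vector.
-/

set_option autoImplicit false
set_option linter.style.haveILetI false

namespace CfsgLib.E8Three

open Cfsg.Lie CfsgLib.Chev CfsgLib.Chev.Tab Matrix

variable {D : ChevalleyDatum} {T : Tab D}

/-- The indices in `J` of the fundamental roots orthogonal to `w`. -/
def zeroJ (T : Tab D) (J : Set ℕ) (w : Fin D.rank → ℤ) : Set ℕ :=
  {j | j ∈ J ∧ (j < D.rank → T.wrow (D.simple j) ⬝ᵥ w = 0)}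

variable (G : T.Good) {F : Type*} [Field F]
include G

theorem wrow_negF (s : Fin D.nroots) : T.wrow (negF s).val = -T.wrow s.val :=
  funext fun a => ((G.full.cert.root_spec s.isLt).2.2.2.1 a a.isLt).1

theorem dot_reflT (l : Fin D.rank) {r : ℕ} (hr : r < D.nroots) (w : Fin D.rank → ℤ) :
    T.wrow (T.reflT l r) ⬝ᵥ w =
      T.wrow r ⬝ᵥ w - T.cart l r * (T.wrow (D.simple l) ⬝ᵥ w) := by
  have e : T.wrow (T.reflT l r) = T.wrow r - T.cart l r • T.wrow (D.simple l) := funext fun a => by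
    simp only [Pi.sub_apply, Pi.smul_apply, smul_eq_mul, wrow,
      ((G.full.reflT_spec l.isLt hr).2.2.2.2.1 a a.isLt).1]
  rw [e, sub_dotProduct, smul_dotProduct, smul_eq_mul]

theorem zeroJ_of_pos {J : Set ℕ} {w : Fin D.rank → ℤ}
    (hdom : ∀ i : Fin D.rank, i.val ∈ J → 0 ≤ T.wrow (D.simple i) ⬝ᵥ w) :
    ∀ {r : ℕ}, IsPos D r → T.InJ J r →
      0 ≤ T.wrow r ⬝ᵥ w ∧ (T.wrow r ⬝ᵥ w = 0 → T.InJ (zeroJ T J w) r) := by
  intro r hpos hJ
  induction hn : (T.ht r).toNat using Nat.strong_induction_on generalizing r with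
  | _ n ih =>
    subst hn
    obtain ⟨-, -, -, -, hsum⟩ := G.full.cert.root_spec hpos.1
    obtain ⟨l, hl1, hl2⟩ : ∃ l : Fin D.rank, 0 < T.cor r l.val ∧ 0 < T.cart l.val r := by
      by_contra hc
      simp only [not_exists, not_and, not_lt] at hc
      have : ((List.range D.rank).map fun i => T.cor r i * T.cart i r).sum ≤ 0 := by
        refine (List.sum_le_card_nsmul _ 0 fun a ha => ?_).trans (by simp)
        obtain ⟨i, hi, rfl⟩ := List.mem_map.mp ha
        rw [List.mem_range] at hi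
        rcases ((G.pos_iff_cor hpos.1).mp hpos ⟨i, hi⟩).lt_or_eq with h | h
        · exact mul_nonpos_of_nonneg_of_nonpos h.le (hc ⟨i, hi⟩ h)
        · simp only at h
          rw [← h, zero_mul]
      omega
    have hlJ : l.val ∈ J := by
      by_contra h
      rw [hJ.2 l h] at hl1
      exact lt_irrefl _ hl1
    by_cases hs : r = D.simple l
    · subst hs
      exact ⟨hdom l hlJ, fun e => G.inJ_simple.mpr ⟨hlJ, fun _ => e⟩⟩
    obtain ⟨hlt, hinv, -, hht, -⟩ := G.full.reflT_spec l.isLt hpos.1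
    have hpos' : IsPos D (T.reflT l r) :=
      (G.refl_pos l (s := ⟨r, hpos.1⟩) hpos fun e => hs (congrArg Fin.val e)).1
    have h1 := (G.pos_iff_ht hpos'.1).mp hpos'
    obtain ⟨h2, h3⟩ := ih _ (by omega) hpos' (G.inJ_reflT hlJ hJ) rfl
    rw [dot_reflT G l hpos.1] at h2 h3
    have h4 := mul_nonneg hl2.le (hdom l hlJ)
    refine ⟨by omega, fun e => ?_⟩
    have h5 : T.cart l r * (T.wrow (D.simple l) ⬝ᵥ w) = 0 := by omega
    have hl0 := (mul_eq_zero.mp h5).resolve_left hl2.ne'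
    have := G.inJ_reflT (J := zeroJ T J w) ⟨hlJ, fun _ => hl0⟩ (h3 (by omega))
    rwa [hinv] at this

theorem inJ_zero_iff {J : Set ℕ} {w : Fin D.rank → ℤ}
    (hdom : ∀ i : Fin D.rank, i.val ∈ J → 0 ≤ T.wrow (D.simple i) ⬝ᵥ w) {r : ℕ}
    (hr : T.InJ J r) (h0 : T.wrow r ⬝ᵥ w = 0) : T.InJ (zeroJ T J w) r := by
  by_cases hp : IsPos D r
  · exact (zeroJ_of_pos G hdom hp hr).2 h0
  · have hp' : IsPos D (negR D r) := (G.pos_negF (s := ⟨r, hr.1⟩)).mpr hp
    have h2 := (zeroJ_of_pos G hdom hp' (G.inJ_negR hr)).2 (by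
      have : T.wrow (negR D r) = -T.wrow r := wrow_negF G ⟨r, hr.1⟩
      rw [this, neg_dotProduct, h0, neg_zero])
    have h3 := G.inJ_negR h2
    rwa [negR_eq, negR_eq, show D.nroots - 1 - (D.nroots - 1 - r) = r by have := hr.1; omega] at h3

theorem posJ_zeroJ_lt {J : Set ℕ} {w : Fin D.rank → ℤ} {i : Fin D.rank} (hi : i.val ∈ J)
    (hne : T.wrow (D.simple i) ⬝ᵥ w ≠ 0) :
    Nat.card (posJ T (zeroJ T J w)) < Nat.card (posJ T J) := by
  haveI := finite_rootSet (D := D) (S := posJ T J) fun r hr => hr.1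
  rw [Nat.card_coe_set_eq, Nat.card_coe_set_eq]
  refine Set.ncard_lt_ncard ?_ (Set.toFinite _)
  refine (Set.ssubset_iff_of_subset ?_).mpr
    ⟨D.simple i, ⟨G.pos_simp i, G.inJ_simple.mpr hi⟩, fun h => ?_⟩
  · exact fun r hr => ⟨hr.1, hr.2.1, fun j hj => hr.2.2 j fun hm => hj hm.1⟩
  · exact hne ((G.inJ_simple.mp h.2).2 i.isLt)

theorem inJ_pw {J : Set ℕ} {L : List (Fin D.rank)}
    (hW : G.full.pw L ∈ G.full.WJ (jList D J)) {s : Fin D.nroots} (hs : T.InJ J s.val) :
    T.InJ J (G.full.pw L s).val :=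
  ⟨Fin.isLt _, fun j hj => by
    rw [G.cor_out hW s fun hm => hj (mem_jList.mp hm).2]
    exact hs.2 j hj⟩

theorem pw_mem_WJ {J : Set ℕ} {L : List (Fin D.rank)} (hL : ∀ j ∈ L, j.val ∈ J) :
    G.full.pw L ∈ G.full.WJ (jList D J) := list_prod_mem fun σ hσ => by
  obtain ⟨i, hi, rfl⟩ := List.mem_map.mp hσ
  exact G.refl_mem (mem_jList.mpr ⟨i.isLt, hL i hi⟩)

/-- Weyl words fixing a dominant vector lie in the smaller Levi factor. -/
theorem nw_stab_mem {J : Set ℕ} {w : Fin D.rank → ℤ}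
    (hdom : ∀ i : Fin D.rank, i.val ∈ J → 0 ≤ T.wrow (D.simple i) ⬝ᵥ w) :
    ∀ (n : ℕ) (L : List (Fin D.rank)), (invSet (G.full.pw L)).card = n → (∀ j ∈ L, j.val ∈ J) →
      (∀ s : Fin D.nroots, T.InJ J s.val →
        T.wrow (G.full.pw L s).val ⬝ᵥ w = T.wrow s.val ⬝ᵥ w) →
      G.full.nw F L ∈ D.leviSubgroup F (zeroJ T J w) := by
  intro n
  induction n using Nat.strong_induction_on with
  | _ n ih =>
    intro L hn hL hfix
    have hW := pw_mem_WJ G hL
    by_cases h0 : invSet (G.full.pw L) = ∅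
    · obtain ⟨c, hc⟩ := G.nw_mem_torus (F := F) _ L rfl fun s hs => by
        by_contra hneg
        exact Finset.notMem_empty s (h0 ▸ mem_inv.mpr ⟨hs, hneg⟩)
      rw [hc]
      exact hT_mem_levi G _ c
    · obtain ⟨s, hs⟩ := Finset.nonempty_iff_ne_empty.mpr h0
      obtain ⟨l, hcl, hneg⟩ := G.exists_flip_simple hW hs
      have hlJ : l.val ∈ J := by
        by_contra h
        exact hcl (G.cor_eq_zero_of_flip hW hs fun hm => h (mem_jList.mp hm).2)
      have hl0 : T.wrow (D.simple l) ⬝ᵥ w = 0 := by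
        have e := hfix (G.full.simp' l) (G.inJ_simple.mpr hlJ)
        have h1 := (zeroJ_of_pos G hdom (G.pos_negF.mpr hneg)
          (G.inJ_negR (inJ_pw G hW (s := G.full.simp' l) (G.inJ_simple.mpr hlJ)))).1
        rw [wrow_negF G, neg_dotProduct, e] at h1
        have := hdom l hlJ
        have hsimp : (G.full.simp' l).val = D.simple l := rfl
        rw [hsimp] at h1
        omega
      have hpw : G.full.pw (L ++ [l]) = G.full.pw L * G.full.refl l := by
        rw [G.pw_append, G.pw_singleton]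
      have hpos : IsPos D (G.full.pw (L ++ [l]) (G.full.simp' l)).val := by
        rw [hpw, Equiv.Perm.mul_apply, G.refl_simp, G.negF_WJ hW]
        exact G.pos_negF.mpr hneg
      have hlt := G.inv_mul_refl hpos
      rw [G.pw_append (L ++ [l]) [l], G.pw_singleton, hpw, mul_assoc, G.refl_mul_self, mul_one,
        hn, ← hpw] at hlt
      have hmem := ih _ hlt (L ++ [l]) rfl (fun j hj => by
          rcases List.mem_append.mp hj with h | h
          · exact hL j h
          · rw [List.mem_singleton.mp h]; exact hlJ) fun s hs => by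
          rw [hpw, Equiv.Perm.mul_apply, hfix _ (G.inJ_reflT hlJ hs)]
          show T.wrow (T.reflT l s) ⬝ᵥ w = _
          rw [dot_reflT G l s.isLt, hl0, mul_zero, sub_zero]
      have hns : G.full.nw F (L ++ [l]) = G.full.nw F L * G.full.ns F l := by
        simp [Full.nw]
      rw [hns] at hmem
      have := mul_mem hmem (inv_mem (G.ns_mem_levi (F := F) (J := zeroJ T J w)
        ⟨hlJ, fun _ => hl0⟩))
      rwa [mul_inv_cancel_right] at this

/-- The centraliser in a Levi factor of a torus element with a small exponent vector. -/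
theorem cent_levi [Fintype F] {M₀ : List (List ℤ)} (hM₀ : T.chkSC M₀ = true) {J : Set ℕ}
    {g : Fˣ} {w : Fin D.rank → ℤ}
    (hdom : ∀ i : Fin D.rank, i.val ∈ J → 0 ≤ T.wrow (D.simple i) ⬝ᵥ w)
    (hsmall : ∀ r, T.InJ J r → 2 * |T.wrow r ⬝ᵥ w| < (orderOf g : ℤ))
    {c : Fin D.rank → Fˣ}
    (hc : ∀ r, T.InJ J r → T.chi (F := F) r c = g ^ (T.wrow r ⬝ᵥ w))
    {y : GL D.Idx F} (hy : y ∈ D.leviSubgroup F J)
    (hcomm : y * T.hT F c = T.hT F c * y) : y ∈ D.leviSubgroup F (zeroJ T J w) := by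
  classical
  have hinj : Function.Injective (T.hT F) := (injective_iff_map_eq_one _).mpr fun a ha =>
    G.sc_hT_inj hM₀ ha
  have hz : ∀ a b : ℤ, 2 * |a| < (orderOf g : ℤ) → 2 * |b| < (orderOf g : ℤ) →
      g ^ a = g ^ b → a = b := fun a b ha hb e => by
    have hd : (orderOf g : ℤ) ∣ a - b := by
      rw [orderOf_dvd_iff_zpow_eq_one, _root_.zpow_sub, e, mul_inv_cancel]
    have h1 := abs_sub a b
    exact sub_eq_zero.mp (Int.eq_zero_of_abs_lt_dvd hd (by omega))
  obtain ⟨v, hv, a, L, hL, u, hu, rfl⟩ := levi_form G hy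
  have hLJ : ∀ j ∈ L, j.val ∈ J := fun j hj => (mem_jList.mp (hL j hj)).2
  have hW := pw_mem_WJ G hLJ
  obtain ⟨e, he⟩ := G.nw_hT (F := F) L c
  have hd : ∀ b, T.hT F b ∈ D.diagonalSubgroup F := fun b => by
    rw [G.full.diagonal_eq_range]; exact ⟨b, rfl⟩
  have hflip := flip_subset_posJ G hW
  have hvp : v ∈ D.posUnipotent F := US_le_pos G (fun s hs => hs.1) hv
  set v1 := T.hT F c * v * (T.hT F c)⁻¹
  set u1 := (T.hT F c)⁻¹ * u * T.hT F c
  have hv1 : v1 ∈ D.posUnipotent F :=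
    US_le_pos G (fun s hs => hs.1) (G.hT_conj_US _ (fun s hs => hs.1.1) c hv)
  have hu1 : u1 ∈ G.US F (flipSet (G.full.pw L)) := by
    have := G.hT_conj_US _ (fun s hs => by obtain ⟨h, -⟩ := hs; exact h) c⁻¹ hu
    simpa [map_inv] using this
  have e1 : v1 * T.hT F (c * a) * G.full.nw F L * u =
      v * T.hT F (a * e) * G.full.nw F L * u1 := by
    calc v1 * T.hT F (c * a) * G.full.nw F L * u
        = T.hT F c * (v * T.hT F a * G.full.nw F L * u) := by
          simp only [v1, map_mul]; group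
      _ = v * T.hT F a * G.full.nw F L * u * T.hT F c := hcomm.symm
      _ = v * T.hT F a * (G.full.nw F L * T.hT F c) * u1 := by simp only [u1]; group
      _ = _ := by rw [he, map_mul]; group
  obtain ⟨hb, hu'⟩ := (G.canonical_unique
    (mul_mem (Subgroup.mem_sup_left hv1) (Subgroup.mem_sup_right (hd (c * a))))
    (mul_mem (Subgroup.mem_sup_left hvp) (Subgroup.mem_sup_right (hd (a * e))))
    (G.nw_mem_monomial L) (G.nw_mem_monomial L) (G.rootAct_nw L) (G.rootAct_nw L) hu hu1 e1).2 rfl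
  have hm : v⁻¹ * v1 ∈ D.posUnipotent F ⊓ D.diagonalSubgroup F := by
    refine Subgroup.mem_inf.mpr ⟨mul_mem (inv_mem hvp) hv1, ?_⟩
    have e' : v⁻¹ * v1 = T.hT F (a * e) * (T.hT F (c * a))⁻¹ := by
      rw [eq_mul_inv_iff_mul_eq, mul_assoc, hb, inv_mul_cancel_left]
    rw [e']
    exact mul_mem (hd _) (inv_mem (hd _))
  rw [G.pos_inf_diagonal, Subgroup.mem_bot, inv_mul_eq_one] at hm
  have hec : e = c := by
    rw [← hm, mul_right_inj] at hb
    have := hinj hb
    rw [mul_comm c a] at this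
    exact (mul_left_cancel this).symm
  rw [hec] at he
  have hzero : ∀ s, T.InJ J s → T.chi (F := F) s c = 1 → T.InJ (zeroJ T J w) s := fun s hs h1 =>
    inJ_zero_iff G hdom hs (hz _ 0 (hsmall s hs)
      (lt_of_le_of_lt (by simp) (hsmall s hs)) (by rw [← hc s hs, h1, _root_.zpow_zero]))
  have hfix : ∀ s : Fin D.nroots, T.InJ J s.val →
      T.wrow (G.full.pw L s).val ⬝ᵥ w = T.wrow s.val ⬝ᵥ w := fun s hs => by
    refine hz _ _ (hsmall _ (inJ_pw G hW hs)) (hsmall _ hs) ?_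
    rw [← hc _ hs, ← hc _ (inJ_pw G hW hs)]
    exact G.chi_conj (G.rootAct_nw L) (mul_inv_eq_iff_eq_mul.mpr he) s
  refine mul_mem (mul_mem (mul_mem ?_ (hT_mem_levi G _ a)) (nw_stab_mem G hdom _ L rfl hLJ hfix)) ?_
  · refine (Subgroup.closure_le _).mpr (fun g' hg' => ?_)
      ((G.fixed_US (closed_posJ G J) c hv).mp hm.symm)
    obtain ⟨r, hr, t, rfl⟩ := hg'
    exact G.levi_x_mem (hzero r hr.1.2 hr.2) t
  · refine (Subgroup.closure_le _).mpr (fun g' hg' => ?_)
      ((G.fixed_US (G.closed_flip L) c hu).mp ?_)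
    · obtain ⟨r, hr, t, rfl⟩ := hg'
      exact G.levi_x_mem (hzero r (hflip r hr.1).2 hr.2) t
    · rw [mul_inv_eq_iff_eq_mul]
      conv_lhs => rw [hu']
      simp only [u1]
      group

end CfsgLib.E8Three
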