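import Cfsg.Agent.E8Three.Sylow
import Cfsg.Agent.Chev.FieldFix
import Mathlib.FieldTheory.Finite.Extension

/-!
A semisimple element of a Levi factor commutes, after conjugation, with a torus element of large
order modulo the centre of the Levi factor.
-/

set_option autoImplicit false
set_option linter.style.haveILetI false

namespace CfsgLib.E8Three

open Cfsg.Lie CfsgLib.Chev CfsgLib.Chev.Tab Matrix

variable {D : ChevalleyDatum} {T : Tab D} (G : T.Good)
include G

theorem glMap_levi {E F : Type*} [Field E] [Field F] (f : E →+* F) {J : Set ℕ} {g : GL D.Idx E}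
    (hg : g ∈ D.leviSubgroup E J) : glMap D f g ∈ D.leviSubgroup F J := by
  have h : D.leviSubgroup E J ≤ (D.leviSubgroup F J).comap (glMap D f) := by
    refine G.levi_le_iff ?_ fun r hr t => ?_
    · rw [G.full.diagonal_eq_range]
      rintro _ ⟨c, rfl⟩
      rw [Subgroup.mem_comap, G.glMap_hT]
      exact hT_mem_levi G J _
    · rw [Subgroup.mem_comap, G.glMap_x]
      exact G.levi_x_mem hr _
  exact h hg

omit G in
theorem sc_recover {M : List (List ℤ)} (hM : T.chkSC M = true) {F : Type*} [Field F]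
    (c : Fin D.rank → Fˣ) (k : Fin D.rank) :
    ∏ j : Fin D.rank, (T.chi (F := F) (D.simple j) c) ^ (M.getD k.val []).getD j.val 0 = c k := by
  simp only [chkSC, Bool.and_eq_true, allBelow_iff, decide_eq_true_eq] at hM
  have e2 : ∀ i : Fin D.rank,
      ∑ j : Fin D.rank, T.cart i (D.simple j) * (M.getD k.val []).getD j.val 0 =
        if i = k then 1 else 0 := fun i => by
    have := hM.1 k k.isLt i i.isLt
    rw [list_sum_range] at this
    simp only [Fin.val_eq_val] at this
    rw [← this]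
    exact Finset.sum_congr rfl fun j _ => mul_comm _ _
  simp only [chi, MonoidHom.coe_mk, OneHom.coe_mk, ← Finset.prod_zpow, ← _root_.zpow_mul]
  rw [Finset.prod_comm]
  simp only [← zpow_sum_eq_prod, e2]
  rw [Finset.prod_eq_single k (fun i _ hi => by simp [hi]) (by simp)]
  simp

theorem mem_zJ_of_map {E F : Type*} [Field E] [Field F] (f : E →+* F) {M₀ : List (List ℤ)}
    (hM₀ : T.chkSC M₀ = true) {J : Set ℕ} {s : GL D.Idx E} (h : glMap D f s ∈ zJ T F J) :
    s ∈ zJ T E J := by
  obtain ⟨c, hc, e⟩ := h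
  have hdiag : ∀ r : Fin D.nroots, (T.chi (F := F) r.val c : F) =
      f ((s : Matrix D.Idx D.Idx E) (Sum.inr r) (Sum.inr r)) := fun r => by
    have := congrFun (congrFun (congrArg
      (fun g : GL D.Idx F => (g : Matrix D.Idx D.Idx F)) e) (Sum.inr r)) (Sum.inr r)
    simpa [glMap_coe, T.coe_hT] using this
  let u : Fin D.rank → Eˣ := fun j =>
    Units.mk0 ((s : Matrix D.Idx D.Idx E) (Sum.inr (G.full.simp' j)) (Sum.inr (G.full.simp' j)))
      fun h0 => (T.chi (F := F) (G.full.simp' j).val c).ne_zero (by rw [hdiag, h0, map_zero])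
  have hu : ∀ j, Units.map f.toMonoidHom (u j) = T.chi (F := F) (D.simple j) c := fun j =>
    Units.ext (by exact (hdiag (G.full.simp' j)).symm)
  let d : Fin D.rank → Eˣ := fun k => ∏ j : Fin D.rank, u j ^ (M₀.getD k.val []).getD j.val 0
  have hd : (fun i => Units.map f.toMonoidHom (d i)) = c := funext fun k => by
    rw [← sc_recover hM₀ c k]
    simp only [d, map_prod, map_zpow, hu]
  have hds : T.hT E d = s := glMap_injective f (by rw [G.glMap_hT, hd, e])
  refine ⟨d, fun r hr => ?_, hds⟩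
  have h1 := hdiag ⟨r, hr.1⟩
  rw [hc r hr, ← hds, T.coe_hT, Matrix.diagonal_apply_eq, Sum.elim_inr, Units.val_one] at h1
  exact Units.ext (f.injective (by rw [Units.val_one, map_one]; exact h1.symm))

variable {K : Type} [Field K] [Fintype K]

/-- The bound for the index of the central torus. -/
def indBound (D : ChevalleyDatum) (E : ℕ) : ℕ :=
  (Fintype.card (Equiv.Perm (Fin D.nroots)) * E ^ D.rank) ^ E.primeFactors.card

theorem card_cent_le (p : ℕ) [Fact p.Prime] [CharP K p] {M₀ : List (List ℤ)}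
    (hM₀ : T.chkSC M₀ = true) (J : Set ℕ) {E : ℕ} (hE : E ≠ 0)
    (hEN : ∀ r : ℕ, r.Prime → ¬ r ∣ E → ¬ r ∣ Fintype.card (Equiv.Perm (Fin D.nroots)))
    {x : GL D.Idx K}
    (hno : ∀ u ∈ D.leviSubgroup K J, x * u = u * x → orderOf u ≠ p)
    (hsmall : ∀ (F : Type) [Field F] [Fintype F] (f : K →+* F),
      ∀ s ∈ D.leviSubgroup K J, x * s = s * x → ∀ a ∈ D.leviSubgroup F J, ∀ c,
        a * glMap D f s * a⁻¹ = T.hT F c →
          ∀ i : Fin D.rank, i.val ∈ J → T.chi (F := F) (D.simple i) c ^ E = 1) :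
    Nat.card ↥(D.leviSubgroup K J ⊓ Subgroup.centralizer {x}) ≤
      Nat.card (zJ T K J) * indBound D E := by
  classical
  set C := D.leviSubgroup K J ⊓ Subgroup.centralizer {x} with hC
  set Z := (zJ T K J).subgroupOf C
  set N := Fintype.card (Equiv.Perm (Fin D.nroots))
  have hN : 0 < N := Fintype.card_pos
  have hxc : ∀ s : C, x * (s : GL D.Idx K) = s * x := fun s =>
    Subgroup.mem_centralizer_iff.mp (Subgroup.mem_inf.mp s.2).2 x rfl
  have hp : ∀ r : ℕ, r.Prime → r ∣ Nat.card C → r ≠ p := by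
    rintro r hr hd rfl
    haveI := Fact.mk hr
    obtain ⟨u, hu⟩ := exists_prime_orderOf_dvd_card' r hd
    exact hno u (Subgroup.mem_inf.mp u.2).1 (hxc u) (by rw [Subgroup.orderOf_coe]; exact hu)
  have ext : ∀ r : ℕ, r.Prime → r ∣ Nat.card C → ∀ R : Subgroup C, IsPGroup r R →
      ∃ (F : Type) (_ : Field F) (_ : Fintype F) (f : K →+* F),
        ∃ a ∈ D.leviSubgroup F J, ∀ s ∈ R,
          a * glMap D f ((s : C) : GL D.Idx K) * a⁻¹ ∈ mJ T G.full F J := by
    intro r hr hd R hR
    haveI := Fact.mk hr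
    set e := (Nat.card (G.full.WJ (jList D J))).factorization r + 1 with he
    have hq : Nat.Coprime (Nat.card K) (r ^ e) := by
      refine Nat.Coprime.pow_right _ ?_
      obtain ⟨n, hn, hK⟩ := FiniteField.card K p
      rw [Nat.card_eq_fintype_card, hK]
      exact Nat.Coprime.pow_left _ ((Nat.coprime_primes Fact.out hr).mpr (hp r hr hd).symm)
    set k := Nat.totient (r ^ e)
    haveI : NeZero k := ⟨(Nat.totient_pos.mpr (pow_pos hr.pos _)).ne'⟩
    let F := FiniteField.Extension K p k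
    letI : Fintype F := Fintype.ofFinite F
    have hF : (Fintype.card F : ZMod (r ^ e)) = 1 := by
      rw [← Nat.card_eq_fintype_card, FiniteField.natCard_extension, Nat.cast_pow]
      have := ZMod.pow_totient (ZMod.unitOfCoprime _ hq)
      exact congrArg Units.val this
    let f : K →+* F := algebraMap K F
    obtain ⟨a, ha, h⟩ := conj_into_mJ G (K := F) J (r := r) (e := e) (Nat.lt_succ_self _) hF
      (R := (R.map C.subtype).map (glMap D f)) (fun g hg => by
        obtain ⟨g', ⟨s, -, rfl⟩, rfl⟩ := hg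
        exact glMap_levi G f (Subgroup.mem_inf.mp s.2).1)
      ((hR.map _).map _)
    exact ⟨F, inferInstance, inferInstance, f, a, ha, fun s hs =>
      h _ ⟨_, ⟨s, hs, rfl⟩, rfl⟩⟩
  refine (card_le_of_local Z hE (B := N * E ^ D.rank) (fun r hr hd R hR => ?_)
    (Nat.mul_pos hN (pow_pos (Nat.pos_of_ne_zero hE) _)) (fun r hr hd hrE R hR s hs => ?_)).trans ?_
  · haveI := Fact.mk hr
    obtain ⟨F, _, _, f, a, ha, h⟩ := ext r hr hd R hR
    let R' := (R.map C.subtype).map (glMap D f)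
    have hcard : Nat.card R' = Nat.card R := by
      rw [Subgroup.card_map_of_injective (glMap_injective f),
        Subgroup.card_map_of_injective C.subtype_injective]
    rw [← hcard]
    refine (card_le_of_exponent G hM₀ J hE (R := R') ha ?_ ?_).trans (Nat.mul_le_mul_left _ ?_)
    · rintro _ ⟨_, ⟨s, hs, rfl⟩, rfl⟩
      exact h s hs
    · rintro _ ⟨_, ⟨s, -, rfl⟩, rfl⟩ c hc i hi
      exact hsmall F f _ (Subgroup.mem_inf.mp s.2).1 (hxc s) a ha c hc i hi
    · have hsub : ∀ g : (R' ⊓ zJ T F J : Subgroup (GL D.Idx F)),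
          ∃ s : (R ⊓ Z : Subgroup C), glMap D f ((s : C) : GL D.Idx K) = g := by
        rintro ⟨g, hg⟩
        obtain ⟨⟨_, ⟨s, hs, rfl⟩, rfl⟩, hz⟩ := Subgroup.mem_inf.mp hg
        exact ⟨⟨s, Subgroup.mem_inf.mpr ⟨hs, mem_zJ_of_map G f hM₀ hz⟩⟩, rfl⟩
      choose g hg using hsub
      refine Nat.card_le_card_of_injective g fun u v e => Subtype.ext ?_
      rw [← hg u, ← hg v, e]
  · haveI := Fact.mk hr
    obtain ⟨F, _, _, f, a, ha, h⟩ := ext r hr hd R hR
    let m : mJ T G.full F J := ⟨_, h s hs⟩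
    obtain ⟨j, hj⟩ := hR ⟨s, hs⟩
    have hs1 : ((s : C) : GL D.Idx K) ^ r ^ j = 1 := by
      have := congrArg (fun t : R => ((t : C) : GL D.Idx K)) hj
      simpa using this
    have hm : m ^ r ^ j = 1 := Subtype.ext (by
      show (a * glMap D f ((s : C) : GL D.Idx K) * a⁻¹) ^ r ^ j = 1
      rw [conj_pow, ← map_pow, hs1, map_one, mul_one, mul_inv_cancel])
    have hperm : permHom G J m = 1 := by
      rw [← orderOf_eq_one_iff]
      have h1 : orderOf (permHom G J m) ∣ r ^ j :=
        orderOf_dvd_of_pow_eq_one (by rw [← map_pow, hm, map_one])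
      have h2 : orderOf (permHom G J m) ∣ N := orderOf_dvd_card
      refine Nat.eq_one_of_dvd_coprimes ?_ h1 h2
      exact Nat.Coprime.pow_left _ ((Nat.Prime.coprime_iff_not_dvd hr).mpr (hEN r hr hrE))
    have hd' := permHom_ker G (g := m) hperm
    rw [G.full.diagonal_eq_range] at hd'
    obtain ⟨c, hc⟩ := hd'
    have hinj : Function.Injective (T.hT F) := (injective_iff_map_eq_one _).mpr fun a ha =>
      G.sc_hT_inj hM₀ ha
    have hcj : c ^ r ^ j = 1 := hinj (by
      rw [map_pow, map_one, hc]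
      exact congrArg Subtype.val hm)
    have hz : a * glMap D f ((s : C) : GL D.Idx K) * a⁻¹ ∈ zJ T F J := by
      refine ⟨c, fun l hl => chi_inJ G (fun i hi => ?_) hl, hc⟩
      have h1 : T.chi (F := F) (D.simple i) c ^ E = 1 :=
        hsmall F f _ (Subgroup.mem_inf.mp (s : C).2).1 (hxc s) a ha c hc.symm i hi
      have h2 : T.chi (F := F) (D.simple i) c ^ r ^ j = 1 := by rw [← map_pow, hcj, map_one]
      rw [← orderOf_eq_one_iff]
      exact Nat.eq_one_of_dvd_coprimes (((Nat.Prime.coprime_iff_not_dvd hr).mpr hrE).pow_left j)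
        (orderOf_dvd_of_pow_eq_one h2) (orderOf_dvd_of_pow_eq_one h1)
    refine Subgroup.mem_subgroupOf.mpr (mem_zJ_of_map G f hM₀ ?_)
    have he := zJ_comm G hz ha
    have : glMap D f ((s : C) : GL D.Idx K) = a * glMap D f ((s : C) : GL D.Idx K) * a⁻¹ :=
      calc glMap D f ((s : C) : GL D.Idx K)
          = a⁻¹ * (a * glMap D f ((s : C) : GL D.Idx K) * a⁻¹ * a) := by group
        _ = a⁻¹ * (a * (a * glMap D f ((s : C) : GL D.Idx K) * a⁻¹)) := by rw [he]
        _ = _ := by group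
    rw [this]
    exact hz
  · refine Nat.mul_le_mul_right _ ?_
    exact Nat.card_le_card_of_injective (fun z : Z => (⟨_, z.2⟩ : zJ T K J))
      fun u v e => Subtype.ext (Subtype.ext (congrArg Subtype.val e :))

/-- A large torus element modulo the centre commutes with a conjugate of `x`. -/
theorem exists_toral (p : ℕ) [Fact p.Prime] [CharP K p] {M₀ : List (List ℤ)}
    (hM₀ : T.chkSC M₀ = true) {lam : Fin D.rank → ℤ} (hlam : chkSep T lam) {J : Set ℕ}
    {i : Fin D.rank} (hi : i.val ∈ J) {E : ℕ} (hE : E ≠ 0)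
    (hEN : ∀ r : ℕ, r.Prime → ¬ r ∣ E → ¬ r ∣ Fintype.card (Equiv.Perm (Fin D.nroots)))
    {x : GL D.Idx K} (hx : x ∈ D.leviSubgroup K J) {m : ℕ} (hm : 0 < m) (hxm : x ^ m = 1)
    (hno : ∀ u ∈ D.leviSubgroup K J, x * u = u * x → orderOf u ≠ p)
    (hbig : m ^ D.rank * indBound D E *
      (Fintype.card (Equiv.Perm (Fin D.nroots)) + 2 * degBound T lam) < Fintype.card K - 1) :
    ∃ (F : Type) (_ : Field F) (_ : Fintype F) (f : K →+* F),
      ∃ a ∈ D.leviSubgroup F J, ∃ c, ∃ l : Fin D.rank, l.val ∈ J ∧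
        T.chi (F := F) (D.simple l) c ^ E ≠ 1 ∧
          (a * glMap D f x * a⁻¹) * T.hT F c = T.hT F c * (a * glMap D f x * a⁻¹) := by
  classical
  by_contra hcon
  simp only [not_exists, not_and] at hcon
  have hC := card_cent_le G p hM₀ J hE hEN hno fun F _ _ f s _ hsx a ha c hc l hl => by
    by_contra hne
    refine hcon F inferInstance inferInstance f a ha c l hl hne ?_
    rw [← hc]
    simp only [conj_mul, ← map_mul, hsx]
  haveI : NeZero m := ⟨hm.ne'⟩
  set Lv := D.leviSubgroup K J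
  set C := Lv ⊓ Subgroup.centralizer {x}
  let S : Subgroup (GL D.Idx K) :=
    { carrier := cStar T K J x
      one_mem' := ⟨one_mem _, by simp [one_mem]⟩
      mul_mem' := fun {s t} hs ht => ⟨mul_mem hs.1 ht.1, by
        have e : s * t * x * (s * t)⁻¹ * x⁻¹ =
            s * (t * x * t⁻¹ * x⁻¹) * s⁻¹ * (s * x * s⁻¹ * x⁻¹) := by group
        rw [e, ← zJ_comm G ht.2 hs.1, mul_inv_cancel_right]
        exact mul_mem ht.2 hs.2⟩
      inv_mem' := fun {s} hs => ⟨inv_mem hs.1, by
        have e : s⁻¹ * x * s⁻¹⁻¹ * x⁻¹ = s⁻¹ * (s * x * s⁻¹ * x⁻¹)⁻¹ * s := by group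
        rw [e, mul_assoc, zJ_comm G (inv_mem hs.2) hs.1, inv_mul_cancel_left]
        exact inv_mem hs.2⟩ }
  have hS : Nat.card (cStar T K J x) = Nat.card S := rfl
  let ψ : S →* zJ T K J := MonoidHom.mk' (fun s => ⟨_, s.2.2⟩) fun s t => Subtype.ext (by
    have ht := t.2.2
    show (s : GL D.Idx K) * t * x * ((s : GL D.Idx K) * t)⁻¹ * x⁻¹ =
      ((s : GL D.Idx K) * x * (s : GL D.Idx K)⁻¹ * x⁻¹) *
        ((t : GL D.Idx K) * x * (t : GL D.Idx K)⁻¹ * x⁻¹)
    have e : (s : GL D.Idx K) * t * x * ((s : GL D.Idx K) * t)⁻¹ * x⁻¹ =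
        s * (t * x * (t : GL D.Idx K)⁻¹ * x⁻¹) * (s : GL D.Idx K)⁻¹ *
          (s * x * (s : GL D.Idx K)⁻¹ * x⁻¹) := by group
    rw [e, ← zJ_comm G ht s.2.1, mul_inv_cancel_right, ← zJ_comm G ht]
    exact mul_mem (mul_mem (mul_mem s.2.1 hx) (inv_mem s.2.1)) (inv_mem hx))
  have hker : Nat.card ψ.ker ≤ Nat.card C :=
    Nat.card_le_card_of_injective (fun s => (⟨((s : S) : GL D.Idx K), Subgroup.mem_inf.mpr
      ⟨(s : S).2.1, Subgroup.mem_centralizer_singleton_iff.mpr (by
        have := congrArg Subtype.val s.2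
        exact mul_inv_eq_iff_eq_mul.mp (mul_inv_eq_one.mp this))⟩⟩ : C))
      fun u v e => Subtype.ext (Subtype.ext (congrArg Subtype.val e :))
  have hinj : Function.Injective (T.hT K) := (injective_iff_map_eq_one _).mpr fun a ha =>
    G.sc_hT_inj hM₀ ha
  have hrange : Nat.card ψ.range ≤ m ^ D.rank := by
    have hc : ∀ z : ψ.range, ∃ c : Fin D.rank → rootsOfUnity m K,
        T.hT K (fun k => (c k : Kˣ)) = ((z : zJ T K J) : GL D.Idx K) := by
      rintro ⟨z, s, rfl⟩
      obtain ⟨c, -, hc⟩ := (ψ s).2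
      have hp : ((ψ s : zJ T K J) : GL D.Idx K) ^ m = 1 := by
        have h1 : ((ψ s : zJ T K J) : GL D.Idx K) * x = s * x * (s : GL D.Idx K)⁻¹ := by
          show (s : GL D.Idx K) * x * (s : GL D.Idx K)⁻¹ * x⁻¹ * x = _
          group
        have h2 := congrArg (· ^ m) h1
        simp only [conj_pow, hxm, mul_one, mul_inv_cancel] at h2
        rwa [(show Commute ((ψ s : zJ T K J) : GL D.Idx K) x from
          zJ_comm G (ψ s).2 hx).mul_pow, hxm, mul_one] at h2
      have hcm : c ^ m = 1 := hinj (by rw [map_pow, map_one, hc, hp])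
      exact ⟨fun k => ⟨c k, (mem_rootsOfUnity m (c k)).mpr (congrFun hcm k)⟩, hc⟩
    choose c hc using hc
    refine (Nat.card_le_card_of_injective c fun u v e => Subtype.ext (Subtype.ext ?_)).trans ?_
    · rw [← hc u, ← hc v, e]
    · rw [Nat.card_fun, Nat.card_fin]
      exact Nat.pow_le_pow_left (card_rootsOfUnity K m) _
  have hZpos : 0 < Nat.card (zJ T K J) := Nat.card_pos
  have h1 := cStar_large G hM₀ hlam hi hx
  rw [hS, ← ψ.ker.card_mul_index, Subgroup.index_ker] at h1
  have h2 := Nat.mul_le_mul_right (Fintype.card (Equiv.Perm (Fin D.nroots)) + 2 * degBound T lam)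
    (Nat.mul_le_mul (hker.trans hC) hrange)
  have h3 := h1.trans h2
  have h4 := Nat.mul_lt_mul_of_pos_right hbig hZpos
  nlinarith

end CfsgLib.E8Three
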