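import Cfsg.Agent.E8Three.Sylow
import Cfsg.Agent.BorelTits.Optimal
import Mathlib.GroupTheory.Perm.Cycle.Type

/-!
Descent to a smaller Levi factor for an element commuting with an element of characteristic order.
-/

set_option autoImplicit false
set_option linter.style.haveILetI false

namespace CfsgLib.E8Three

open Cfsg.Lie CfsgLib.Chev CfsgLib.Chev.Tab Matrix

variable {D : ChevalleyDatum} {T : Tab D} (G : T.Good) {F : Type*} [Field F]
include G

theorem group_le_levi_univ : D.group F ≤ D.leviSubgroup F Set.univ :=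
  G.group_le_iff.mpr fun _ hr t => G.levi_x_mem ⟨hr, fun _ hi => absurd (Set.mem_univ _) hi⟩ t

theorem card_rad [Fintype F] (J : Set ℕ) :
    Nat.card (D.unipotentRadical F J) = Fintype.card F ^ Nat.card (outJ T J) := by
  rw [G.rad_eq, show {r | IsPos D r ∧ ¬ T.InJ J r} = outJ T J from rfl,
    G.card_US (closed_outJ G J), Nat.card_eq_fintype_card (α := F)]

omit G in
/-- An element of prime power order in a semidirect product is conjugate into the complement. -/
theorem conj_into_complement {Γ : Type*} [Group Γ] {U : Subgroup Γ} [Finite U] {v l : Γ}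
    (hv : v ∈ U) (hl : l ∈ Subgroup.normalizer (U : Set Γ)) {r : ℕ} [Fact r.Prime]
    (hr : ¬ r ∣ Nat.card U) {k : ℕ} (hy : (v * l) ^ r ^ k = 1) (hlk : l ^ r ^ k = 1) :
    ∃ u ∈ U, u⁻¹ * (v * l) * u = l := by
  classical
  letI := Fintype.ofFinite U
  have hconj : ∀ u ∈ U, v * l * u * l⁻¹ ∈ U := fun u hu => by
    rw [show v * l * u * l⁻¹ = v * (l * u * l⁻¹) by group]
    exact mul_mem hv ((Subgroup.mem_normalizer_iff.mp hl u).mp hu)
  let f : U → U := fun u => ⟨v * l * u * l⁻¹, hconj u u.2⟩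
  have hit : ∀ (n : ℕ) (u : U), ((f^[n] u : U) : Γ) = (v * l) ^ n * u * (l ^ n)⁻¹ := by
    intro n
    induction n with
    | zero => intro u; simp
    | succ n ih =>
      intro u
      rw [Function.iterate_succ_apply']
      show v * l * ((f^[n] u : U) : Γ) * l⁻¹ = _
      rw [ih u, pow_succ' (v * l), pow_succ l]
      group
  have hid : f^[r ^ k] = id := funext fun u => Subtype.ext (by rw [hit, hy, hlk]; simp)
  have hinj : Function.Injective f := fun a b e => by
    have := congrArg Subtype.val e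
    simpa [f] using this
  let σ : Equiv.Perm U := Equiv.ofBijective f (Finite.injective_iff_bijective.mp hinj)
  have hσ : σ ^ r ^ k = 1 := Equiv.ext fun u => by
    rw [Equiv.Perm.coe_pow]
    exact congrFun hid u
  obtain ⟨u, hu⟩ := Equiv.Perm.exists_fixed_point_of_prime
    (by rwa [← Nat.card_eq_fintype_card]) hσ
  refine ⟨u, u.2, ?_⟩
  have e : v * l * (u : Γ) * l⁻¹ = u := congrArg Subtype.val hu
  rw [mul_inv_eq_iff_eq_mul] at e
  rw [mul_assoc, e, inv_mul_cancel_left]

omit G in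
theorem mul_pow_mem {Γ : Type*} [Group Γ] {U : Subgroup Γ} {v l : Γ} (hv : v ∈ U)
    (hl : l ∈ Subgroup.normalizer (U : Set Γ)) :
    ∀ n : ℕ, (v * l) ^ n * (l ^ n)⁻¹ ∈ U
  | 0 => by simp
  | n + 1 => by
    rw [pow_succ' (v * l), pow_succ' l,
      show v * l * (v * l) ^ n * (l * l ^ n)⁻¹ = v * (l * ((v * l) ^ n * (l ^ n)⁻¹) * l⁻¹) by group]
    exact mul_mem hv ((Subgroup.mem_normalizer_iff.mp hl _).mp (mul_pow_mem hv hl n))


omit G in
/-- An element of order prime to the kernel of a semidirect product is conjugate into the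
complement. -/
theorem conj_into_complement_coprime {Γ : Type*} [Group Γ] :
    ∀ (m : ℕ) (U : Subgroup Γ) [Finite U] (v l : Γ), v ∈ U →
      l ∈ Subgroup.normalizer (U : Set Γ) → m.Coprime (Nat.card U) → (v * l) ^ m = 1 → l ^ m = 1 →
      ∃ u ∈ U, u⁻¹ * (v * l) * u = l := by
  intro m
  induction m using Nat.strong_induction_on with
  | _ m ih =>
    intro U _ v l hv hl hm hy hlm
    by_cases hm0 : m = 0
    · subst hm0
      rw [Nat.coprime_zero_left, Subgroup.card_eq_one] at hm
      have hv1 : v = 1 := by rwa [hm, Subgroup.mem_bot] at hv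
      exact ⟨1, one_mem _, by rw [hv1]; group⟩
    by_cases hm1 : m = 1
    · subst hm1
      rw [pow_one] at hy hlm
      exact ⟨1, one_mem _, by rw [hy, hlm]; group⟩
    obtain ⟨r, hr, hrm⟩ := Nat.exists_prime_and_dvd hm1
    haveI := Fact.mk hr
    set k := m.factorization r with hk
    set m' := ordCompl[r] m with hm'
    have hkm : r ^ k * m' = m := Nat.ordProj_mul_ordCompl_eq_self m r
    have hcop : Nat.Coprime (r ^ k) m' := Nat.coprime_ordCompl hr hm0 |>.pow_left k
    have hrU : ¬ r ∣ Nat.card U := fun h =>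
      hr.one_lt.ne' (Nat.eq_one_of_dvd_coprimes hm hrm h)
    set v1 := (v * l) ^ m' * (l ^ m')⁻¹ with hv1
    have hv1U : v1 ∈ U := mul_pow_mem hv hl m'
    have e1 : v1 * l ^ m' = (v * l) ^ m' := inv_mul_cancel_right _ _
    obtain ⟨u, hu, hue⟩ := conj_into_complement hv1U (pow_mem hl m') hrU (k := k)
      (by rw [e1, ← pow_mul, mul_comm, hkm, hy]) (by rw [← pow_mul, mul_comm, hkm, hlm])
    rw [e1] at hue
    set v' := u⁻¹ * (v * l) * u * l⁻¹ with hv'
    have hy' : v' * l = u⁻¹ * (v * l) * u := inv_mul_cancel_right _ _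
    have hpow : ∀ n, (v' * l) ^ n = u⁻¹ * (v * l) ^ n * u := fun n => by
      rw [hy']
      have h := conj_pow (i := n) (a := u⁻¹) (b := v * l)
      rwa [inv_inv] at h
    have hv'U : v' ∈ U := by
      rw [hv', show u⁻¹ * (v * l) * u * l⁻¹ = u⁻¹ * v * (l * u * l⁻¹) by group]
      exact mul_mem (mul_mem (inv_mem hu) hv) ((Subgroup.mem_normalizer_iff.mp hl u).mp hu)
    have hl1 : (v' * l) ^ m' = l ^ m' := by rw [hpow, hue]
    have hc : v' * l ^ m' = l ^ m' * v' := by
      have h1 : Commute (v' * l) (l ^ m') := hl1 ▸ Commute.self_pow _ _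
      have h2 : Commute l⁻¹ (l ^ m') := ((Commute.refl l).inv_left).pow_right _
      have h := (h1.mul_left h2).eq
      rwa [mul_inv_cancel_right] at h
    set U' := U ⊓ Subgroup.centralizer {l ^ m'} with hU'
    haveI : Finite U' := Finite.of_injective _ (Subgroup.inclusion_injective
      (inf_le_left : U' ≤ U))
    have hv'U' : v' ∈ U' :=
      Subgroup.mem_inf.mpr ⟨hv'U, Subgroup.mem_centralizer_singleton_iff.mpr hc⟩
    have hlU' : l ∈ Subgroup.normalizer (U' : Set Γ) := by
      refine Subgroup.mem_normalizer_iff.mpr fun w => ?_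
      rw [hU', Subgroup.mem_inf, Subgroup.mem_inf, Subgroup.mem_normalizer_iff.mp hl w,
        Subgroup.mem_centralizer_singleton_iff, Subgroup.mem_centralizer_singleton_iff]
      have hP : l * l ^ m' * l⁻¹ = l ^ m' := by
        rw [(Commute.self_pow l m').eq, mul_inv_cancel_right]
      conv_rhs => rw [← hP, conj_mul, conj_mul]
      simp
    set v2 := (v' * l) ^ r ^ k * (l ^ r ^ k)⁻¹ with hv2
    have hv2U : v2 ∈ U' := mul_pow_mem hv'U' hlU' _
    have e2 : v2 * l ^ r ^ k = (v' * l) ^ r ^ k := inv_mul_cancel_right _ _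
    have hm'lt : m' < m := by
      have hk0 : k ≠ 0 := (hr.factorization_pos_of_dvd hm0 hrm).ne'
      have : 1 < r ^ k := Nat.one_lt_pow hk0 hr.one_lt
      have hm'0 : 0 < m' := Nat.ordCompl_pos r hm0
      calc m' = 1 * m' := (one_mul _).symm
        _ < r ^ k * m' := Nat.mul_lt_mul_of_pos_right this hm'0
        _ = m := hkm
    have hm'U : m'.Coprime (Nat.card U') :=
      (hm.coprime_dvd_left ⟨r ^ k, by rw [mul_comm, hkm]⟩).coprime_dvd_right
        (Subgroup.card_dvd_of_le inf_le_left)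
    obtain ⟨w, hw, hwe⟩ := ih m' hm'lt U' v2 (l ^ r ^ k) hv2U (pow_mem hlU' _) hm'U
      (by rw [e2, ← pow_mul, hkm, hpow, hy]; group) (by rw [← pow_mul, hkm, hlm])
    rw [e2] at hwe
    refine ⟨u * w, mul_mem hu (Subgroup.mem_inf.mp hw).1, ?_⟩
    rw [show (u * w)⁻¹ * (v * l) * (u * w) = w⁻¹ * (v' * l) * w by rw [hy']; group]
    set z := w⁻¹ * (v' * l) * w
    have hzp : ∀ n, z ^ n = w⁻¹ * (v' * l) ^ n * w := fun n => by
      have h := conj_pow (i := n) (a := w⁻¹) (b := v' * l)
      rwa [inv_inv] at h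
    have hz1 : z ^ r ^ k = l ^ r ^ k := by rw [hzp, hwe]
    have hz2 : z ^ m' = l ^ m' := by
      rw [hzp, hl1, mul_assoc,
        ← Subgroup.mem_centralizer_singleton_iff.mp (Subgroup.mem_inf.mp hw).2,
        inv_mul_cancel_left]
    have hbez : ((r ^ k : ℕ) : ℤ) * Nat.gcdA (r ^ k) m' + (m' : ℤ) * Nat.gcdB (r ^ k) m' = 1 := by
      rw [← Nat.gcd_eq_gcd_ab, hcop.gcd_eq_one]; rfl
    calc z = z ^ (((r ^ k : ℕ) : ℤ) * Nat.gcdA (r ^ k) m' + (m' : ℤ) * Nat.gcdB (r ^ k) m') := by
          rw [hbez, _root_.zpow_one]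
      _ = l ^ (((r ^ k : ℕ) : ℤ) * Nat.gcdA (r ^ k) m' + (m' : ℤ) * Nat.gcdB (r ^ k) m') := by
          simp only [_root_.zpow_add, _root_.zpow_mul, _root_.zpow_natCast, hz1, hz2]
      _ = l := by rw [hbez, _root_.zpow_one]

/-- An element commuting with an element of characteristic order lies in a smaller Levi factor. -/
theorem descend_p [Fintype F] (p : ℕ) [Fact p.Prime] [CharP F p] {m : ℕ}
    (hmp : ¬ p ∣ m) {J : Set ℕ} {x u : GL D.Idx F} (hx : x ∈ D.leviSubgroup F J)
    (hxm : x ^ m = 1) (hu : u ∈ D.leviSubgroup F J) (hu1 : u ≠ 1) {j : ℕ}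
    (hup : u ^ p ^ j = 1) (hcomm : x * u = u * x) :
    ∃ a ∈ D.group F, ∃ J', Nat.card (posJ T J') < Nat.card (posJ T J) ∧
      a * x * a⁻¹ ∈ D.leviSubgroup F J' := by
  classical
  set U := D.unipotentRadical F J with hU
  have hN : D.leviSubgroup F J ≤ Subgroup.normalizer (U : Set (GL D.Idx F)) :=
    (levi_le_parabolic G J).trans (G.rad_normal J)
  set Q := U ⊔ Subgroup.zpowers u with hQ
  have hQp : IsPGroup p Q := by
    refine IsPGroup.to_sup_of_normal_left' ((G.isPGroup_pos p).to_le (G.rad_le_pos J)) ?_ ?_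
    · rw [IsPGroup.iff_card]
      obtain ⟨i, -, hi⟩ := (Nat.dvd_prime_pow Fact.out).mp (orderOf_dvd_of_pow_eq_one hup)
      exact ⟨i, by rw [Nat.card_zpowers, hi]⟩
    · exact (Subgroup.zpowers_le.mpr (hN hu))
  have hQG : Q ≤ D.group F := sup_le (G.rad_le_group J)
    (Subgroup.zpowers_le.mpr (levi_le_group G J hu))
  have hQne : Q ≠ ⊥ := fun e => hu1 (by
    have := (Subgroup.mem_sup_right (S := U) (Subgroup.mem_zpowers u))
    rw [← hQ, e, Subgroup.mem_bot] at this
    exact this)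
  obtain ⟨g, hg, J', -, hNP, hQU⟩ := CfsgLib.BorelTits.borel_tits G p hQG hQp hQne
  have hxQ : x ∈ Subgroup.normalizer (Q : Set (GL D.Idx F)) := by
    refine U.normalizer_inf_normalizer_le_normalizer_sup _ (Subgroup.mem_inf.mpr ⟨hN hx, ?_⟩)
    refine Subgroup.centralizer_le_normalizer (Subgroup.zpowers u : Set (GL D.Idx F)) ?_
    rw [Subgroup.mem_centralizer_iff]
    intro z hz
    obtain ⟨i, rfl⟩ := Subgroup.mem_zpowers_iff.mp hz
    exact ((Commute.zpow_right (hcomm : Commute x u) i).eq).symm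
  have hxP := hNP (Subgroup.mem_inf.mpr ⟨hxQ, levi_le_group G J hx⟩)
  rw [Subgroup.mem_map_equiv, MulAut.conj_symm_apply] at hxP
  -- the orders of the radicals
  have hlt : Nat.card U < Nat.card (D.unipotentRadical F J') := by
    refine lt_of_lt_of_le (?_ : Nat.card U < Nat.card Q) ?_
    · refine lt_of_le_of_ne (Nat.card_le_card_of_injective _
        (Subgroup.inclusion_injective le_sup_left)) fun e => hu1 ?_
      have h1 : U = Q := Subgroup.eq_of_le_of_card_ge le_sup_left e.ge
      have h2 : u ∈ U := by rw [h1]; exact Subgroup.mem_sup_right (Subgroup.mem_zpowers u)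
      have h3 := Subgroup.mem_inf.mpr ⟨h2, hu⟩
      rwa [hU, G.rad_inf_levi, Subgroup.mem_bot] at h3
    · exact (Nat.card_le_card_of_injective _ (Subgroup.inclusion_injective hQU)).trans_eq
        (Subgroup.card_map_of_injective (MulEquiv.injective _))
  rw [hU, card_rad G, card_rad G, Nat.pow_lt_pow_iff_right Fintype.one_lt_card] at hlt
  have hJ' : Nat.card (posJ T J') < Nat.card (posJ T J) := by
    have h1 := card_pos_split G J
    have h2 := card_pos_split G J'
    omega
  -- into the Levi factor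
  set U' := D.unipotentRadical F J'
  have hN' : D.leviSubgroup F J' ≤ Subgroup.normalizer (U' : Set (GL D.Idx F)) :=
    (levi_le_parabolic G J').trans (G.rad_normal J')
  have hxP' : g⁻¹ * x * g ∈ ((U' ⊔ D.leviSubgroup F J' : Subgroup (GL D.Idx F)) :
      Set (GL D.Idx F)) := by rw [G.rad_sup_levi]; exact hxP
  rw [Subgroup.coe_mul_of_right_le_normalizer_left _ _ hN', Set.mem_mul] at hxP'
  obtain ⟨v, hv, l, hl, e⟩ := hxP'
  have hy : (v * l) ^ m = 1 := by
    have h := conj_pow (i := m) (a := g⁻¹) (b := x)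
    rw [inv_inv] at h
    rw [e, h, hxm]
    simp
  have hlk : l ^ m = 1 := by
    have h1 := mul_pow_mem (U := U') hv (hN' hl) m
    rw [hy, one_mul, inv_mem_iff] at h1
    have h2 := Subgroup.mem_inf.mpr ⟨h1, pow_mem hl m⟩
    rwa [G.rad_inf_levi, Subgroup.mem_bot] at h2
  obtain ⟨n, hn⟩ := IsPGroup.iff_card.mp ((G.isPGroup_pos (F := F) p).to_le (G.rad_le_pos J'))
  have hru : m.Coprime (Nat.card U') := by
    rw [hn]
    exact (((Fact.out : p.Prime).coprime_iff_not_dvd.mpr hmp).symm).pow_right n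
  obtain ⟨w, hw, hwl⟩ := conj_into_complement_coprime m U' v l hv (hN' hl) hru hy hlk
  refine ⟨w⁻¹ * g⁻¹, mul_mem (inv_mem (G.rad_le_group J' hw)) (inv_mem hg), J', hJ', ?_⟩
  rw [show w⁻¹ * g⁻¹ * x * (w⁻¹ * g⁻¹)⁻¹ = w⁻¹ * (g⁻¹ * x * g) * w by group, ← e, hwl]
  exact hl

end CfsgLib.E8Three
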