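import Cfsg.Agent.Chev.RadicalChain

/-!
Bruhat cells of the Levi factors of a Chevalley group.
-/

set_option autoImplicit false
set_option linter.style.haveILetI false

namespace CfsgLib.E8Three

open Cfsg.Lie CfsgLib.Chev CfsgLib.Chev.Tab Matrix

variable {D : ChevalleyDatum} {T : Tab D}

/-- The positive roots supported in `J`. -/
def posJ (T : Tab D) (J : Set ℕ) : Set ℕ := {r | IsPos D r ∧ T.InJ J r}

/-- The positive roots outside `J`. -/
def outJ (T : Tab D) (J : Set ℕ) : Set ℕ := {r | IsPos D r ∧ ¬ T.InJ J r}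

variable (G : T.Good) {F : Type*} [Field F]
include G

theorem inJ_iff_fJ {J : Set ℕ} {r : ℕ} (hr : IsPos D r) :
    T.InJ J r ↔ G.fJ J r = 0 :=
  ⟨fun h => G.fJ_inJ h, fun h => by
    by_contra hn
    exact (G.fJ_pos hr hn).ne' h⟩

theorem closed_posJ (J : Set ℕ) : T.Closed (posJ T J) := by
  refine ⟨fun r hr => hr.1, fun r hr s hs c hc => ?_⟩
  have hk := G.comm_keys hr.1 hs.1 hc
  refine ⟨hk.1, (inJ_iff_fJ G hk.1).mpr ?_⟩
  obtain ⟨a, b, -, -, hw⟩ := G.comm_add hr.1.1 hs.1.1 hc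
  rw [hw _ (G.fJ_isAdd J), G.fJ_inJ hr.2, G.fJ_inJ hs.2]
  ring

theorem closed_outJ (J : Set ℕ) : T.Closed (outJ T J) := by
  refine ⟨fun r hr => hr.1, fun r hr s hs c hc => ?_⟩
  have hk := G.comm_keys hr.1 hs.1 hc
  refine ⟨hk.1, fun hJ => ?_⟩
  obtain ⟨a, b, ha, hb, hw⟩ := G.comm_add hr.1.1 hs.1.1 hc
  have e := hw _ (G.fJ_isAdd J)
  rw [G.fJ_inJ hJ] at e
  nlinarith [G.fJ_pos hr.1 hr.2, G.fJ_pos hs.1 hs.2]

theorem levi_le_parabolic (J : Set ℕ) :
    D.leviSubgroup F J ≤ D.parabolicSubgroup F J :=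
  le_sup_right.trans (G.rad_sup_levi J).le

theorem levi_le_group (J : Set ℕ) : D.leviSubgroup F J ≤ D.group F :=
  (levi_le_parabolic G J).trans (G.parabolic_le_group J)

theorem hT_mem_levi (J : Set ℕ) (c : Fin D.rank → Fˣ) : T.hT F c ∈ D.leviSubgroup F J :=
  Subgroup.mem_sup_left (by rw [G.full.diagonal_eq_range]; exact ⟨c, rfl⟩)

theorem nw_mem_levi {J : Set ℕ} {L : List (Fin D.rank)} (hL : ∀ j ∈ L, j.val ∈ J) :
    G.full.nw F L ∈ D.leviSubgroup F J :=
  list_prod_mem fun a ha => by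
    obtain ⟨i, hi, rfl⟩ := List.mem_map.mp ha
    exact G.ns_mem_levi (hL i hi)

theorem US_posJ_le_levi (J : Set ℕ) : G.US F (posJ T J) ≤ D.leviSubgroup F J :=
  (Subgroup.closure_le _).mpr fun _ ⟨_, hr, t, e⟩ => e ▸ G.levi_x_mem hr.2 t

theorem US_le_pos {S : Set ℕ} (hS : ∀ s ∈ S, IsPos D s) : G.US F S ≤ D.posUnipotent F := by
  rw [G.posUnipotent_eq]
  exact G.US_mono hS

theorem flip_subset_posJ {J : Set ℕ} {σ : Equiv.Perm (Fin D.nroots)}
    (h : σ ∈ G.full.WJ (jList D J)) : ∀ s, s ∈ flipSet σ → s ∈ posJ T J := by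
  rintro s ⟨hs, h1, h2⟩
  refine ⟨h1, hs, fun i hi => ?_⟩
  exact G.cor_eq_zero_of_flip h (s := ⟨s, hs⟩) (mem_inv.mpr ⟨h1, h2⟩)
    fun hm => hi (mem_jList.mp hm).2

omit G in
theorem finite_rootSet {S : Set ℕ} (hS : ∀ s ∈ S, IsPos D s) : Finite S :=
  ((Set.finite_lt_nat D.nroots).subset fun r hr => (hS r hr).1).to_subtype

theorem card_pos_split (J : Set ℕ) :
    Nat.card {r | IsPos D r} = Nat.card (outJ T J) + Nat.card (posJ T J) := by
  haveI := finite_rootSet (D := D) (S := outJ T J) fun r hr => hr.1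
  haveI := finite_rootSet (D := D) (S := posJ T J) fun r hr => hr.1
  classical
  have hd : Disjoint (outJ T J) (posJ T J) :=
    Set.disjoint_left.mpr fun r h1 h2 => h1.2 h2.2
  have hu : outJ T J ∪ posJ T J = {r | IsPos D r} := by
    ext r
    simp only [outJ, posJ, Set.mem_union, Set.mem_setOf_eq]
    tauto
  rw [← Nat.card_sum, ← hu]
  exact Nat.card_congr (Equiv.Set.union hd)

/-- The order of a Levi factor. -/
theorem card_levi [Fintype F] (J : Set ℕ) :
    Nat.card (D.leviSubgroup F J) = Nat.card (D.diagonalSubgroup F) *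
      Fintype.card F ^ Nat.card (posJ T J) * G.full.poly (jList D J) (Fintype.card F) := by
  classical
  have e : Nat.card (D.parabolicSubgroup F J) =
      Nat.card (D.unipotentRadical F J) * Nat.card (D.leviSubgroup F J) := by
    rw [← Nat.card_prod]
    refine (Nat.card_congr (Equiv.ofBijective
      (fun p : D.unipotentRadical F J × D.leviSubgroup F J =>
        (⟨p.1.1 * p.2.1, by
          rw [← G.rad_sup_levi]
          exact mul_mem (Subgroup.mem_sup_left p.1.2) (Subgroup.mem_sup_right p.2.2)⟩ :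
          D.parabolicSubgroup F J)) ⟨?_, ?_⟩)).symm
    · rintro ⟨u, l⟩ ⟨v, k⟩ e
      have e' : (u : GL D.Idx F) * l = v * k := congrArg Subtype.val e
      have hm : (v : GL D.Idx F)⁻¹ * u ∈ D.unipotentRadical F J ⊓ D.leviSubgroup F J := by
        refine Subgroup.mem_inf.mpr ⟨mul_mem (inv_mem v.2) u.2, ?_⟩
        have : (v : GL D.Idx F)⁻¹ * u = k * (l : GL D.Idx F)⁻¹ := by
          rw [eq_mul_inv_iff_mul_eq, mul_assoc, e', inv_mul_cancel_left]
        rw [this]
        exact mul_mem k.2 (inv_mem l.2)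
      rw [G.rad_inf_levi, Subgroup.mem_bot, inv_mul_eq_one] at hm
      obtain rfl : u = v := Subtype.ext hm.symm
      exact Prod.ext rfl (Subtype.ext (mul_left_cancel e'))
    · rintro ⟨g, hg⟩
      have hN : D.leviSubgroup F J ≤
          Subgroup.normalizer (D.unipotentRadical F J : Set (GL D.Idx F)) :=
        (levi_le_parabolic G J).trans (G.rad_normal J)
      have hg' : g ∈ ((D.unipotentRadical F J ⊔ D.leviSubgroup F J : Subgroup (GL D.Idx F)) :
          Set (GL D.Idx F)) := by rw [G.rad_sup_levi]; exact hg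
      rw [Subgroup.coe_mul_of_right_le_normalizer_left _ _ hN, Set.mem_mul] at hg'
      obtain ⟨u, hu, l, hl, rfl⟩ := hg'
      exact ⟨(⟨u, hu⟩, ⟨l, hl⟩), rfl⟩
  rw [G.card_parabolic, G.card_borel, G.rad_eq, G.posUnipotent_eq, G.card_US G.closed_pos,
    show {r | IsPos D r ∧ ¬ T.InJ J r} = outJ T J from rfl, G.card_US (closed_outJ G J),
    card_pos_split G J, Nat.card_eq_fintype_card (α := F), pow_add] at e
  refine Nat.eq_of_mul_eq_mul_left (pow_pos (Fintype.card_pos (α := F)) (Nat.card (outJ T J))) ?_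
  rw [← e]
  ring

/-- Every element of a Levi factor has a normal form inside it. -/
theorem levi_form [Fintype F] {J : Set ℕ} {y : GL D.Idx F} (hy : y ∈ D.leviSubgroup F J) :
    ∃ v ∈ G.US F (posJ T J), ∃ c L, (∀ j ∈ L, j.val ∈ jList D J) ∧
      ∃ u ∈ G.US F (flipSet (G.full.pw L)), y = v * T.hT F c * G.full.nw F L * u := by
  classical
  let W : Finset (Equiv.Perm (Fin D.nroots)) :=
    Finset.univ.filter fun σ => σ ∈ G.full.WJ (jList D J)
  have hword : ∀ σ : W, ∃ L : List (Fin D.rank), (∀ j ∈ L, j.val ∈ jList D J) ∧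
      G.full.pw L = σ.1 := fun σ => G.exists_word_WJ (Finset.mem_filter.mp σ.2).2
  choose L hLJ hL using hword
  let n : W → GL D.Idx F := fun σ => G.full.nw F (L σ)
  have hn : ∀ σ : W, G.full.RootAct (n σ) σ.1 := fun σ => by
    have := G.rootAct_nw (F := F) (L σ)
    rwa [hL σ] at this
  let Φ : (Σ σ : W, G.US F (posJ T J) × D.diagonalSubgroup F × G.US F (flipSet σ.1)) →
      D.leviSubgroup F J := fun p =>
    ⟨p.2.1.1 * p.2.2.1.1 * n p.1 * p.2.2.2.1, mul_mem (mul_mem (mul_mem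
      (US_posJ_le_levi G J p.2.1.2) (Subgroup.mem_sup_left p.2.2.1.2))
      (nw_mem_levi G fun j hj => (mem_jList.mp (hLJ p.1 j hj)).2))
      (US_posJ_le_levi G J (G.US_mono (flip_subset_posJ G (Finset.mem_filter.mp p.1.2).2)
        p.2.2.2.2))⟩
  have hinj : Function.Injective Φ := by
    rintro ⟨σ, v, d, u⟩ ⟨σ', v', d', u'⟩ e
    have e' : (v : GL D.Idx F) * d * n σ * u = v' * d' * n σ' * u' := congrArg Subtype.val e
    have hb : ∀ (v : G.US F (posJ T J)) (d : D.diagonalSubgroup F),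
        (v : GL D.Idx F) * d ∈ D.borelSubgroup F := fun v d =>
      mul_mem (Subgroup.mem_sup_left (US_le_pos G (fun s hs => hs.1) v.2))
        (Subgroup.mem_sup_right d.2)
    obtain ⟨h1, h2⟩ := G.canonical_unique (hb v d) (hb v' d') (G.nw_mem_monomial _)
      (G.nw_mem_monomial _) (hn σ) (hn σ') u.2 u'.2 e'
    rw [G.full.diagonal_eq_range] at h1
    obtain ⟨c, hc⟩ := h1
    have hact : G.full.RootAct (n σ') σ.1 := by
      have h := G.rootAct_mul (hn σ) (G.rootAct_hT c)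
      rwa [hc, mul_inv_cancel_left, mul_one] at h
    obtain rfl : σ = σ' := Subtype.ext (G.rootAct_unique hact (hn σ'))
    obtain ⟨hvd, hu⟩ := h2 rfl
    have hm : (v' : GL D.Idx F)⁻¹ * v ∈ D.posUnipotent F ⊓ D.diagonalSubgroup F := by
      refine Subgroup.mem_inf.mpr ⟨mul_mem (inv_mem (US_le_pos G (fun s hs => hs.1) v'.2))
        (US_le_pos G (fun s hs => hs.1) v.2), ?_⟩
      have : (v' : GL D.Idx F)⁻¹ * v = d' * (d : GL D.Idx F)⁻¹ := by
        rw [eq_mul_inv_iff_mul_eq, mul_assoc, hvd, inv_mul_cancel_left]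
      rw [this]
      exact mul_mem d'.2 (inv_mem d.2)
    rw [G.pos_inf_diagonal, Subgroup.mem_bot, inv_mul_eq_one] at hm
    obtain rfl : v = v' := Subtype.ext hm.symm
    obtain rfl : d = d' := Subtype.ext (mul_left_cancel hvd)
    rw [Subtype.ext hu]
  have hcard : Nat.card (Σ σ : W, G.US F (posJ T J) × D.diagonalSubgroup F ×
      G.US F (flipSet σ.1)) = Nat.card (D.leviSubgroup F J) := by
    rw [Nat.card_sigma, card_levi G J, Full.poly, Finset.mul_sum,
      ← Finset.sum_coe_sort (Finset.univ.filter fun σ => σ ∈ G.full.WJ (jList D J))]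
    refine Finset.sum_congr rfl fun σ _ => ?_
    obtain ⟨L', -, e⟩ := G.exists_word_WJ (Finset.mem_filter.mp σ.2).2
    rw [Nat.card_prod, Nat.card_prod, G.card_US (closed_posJ G J),
      G.card_US (e ▸ G.closed_flip L'), G.invSet_card, Nat.card_eq_fintype_card (α := F)]
    ring
  obtain ⟨⟨σ, v, d, u⟩, hp⟩ :=
    ((Nat.bijective_iff_injective_and_card Φ).mpr ⟨hinj, hcard⟩).2 ⟨y, hy⟩
  obtain ⟨c, hc⟩ : (d : GL D.Idx F) ∈ (T.hT F).range := by
    rw [← G.full.diagonal_eq_range]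
    exact d.2
  refine ⟨v, v.2, c, L σ, hLJ σ, u, by rw [hL σ]; exact u.2, ?_⟩
  rw [hc]
  exact (congrArg Subtype.val hp).symm

end CfsgLib.E8Three
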