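import Cfsg.Agent.E8Three.Cent
import Cfsg.Agent.E8Three.Count
import Cfsg.Agent.E8Three.DescendA
import Cfsg.Agent.Chev.EllipticTorus

/-!
Elements of prime power order away from the characteristic are conjugate into the torus over a
finite extension of the field.
-/

set_option autoImplicit false
set_option linter.style.haveILetI false

namespace CfsgLib.E8Three

open Cfsg.Lie CfsgLib.Chev CfsgLib.Chev.Tab Matrix

/-- Simultaneous small residues. -/
theorem small_residues {R n Q : ℕ} (hQ : 0 < Q) (h : Q ^ R < n) (a : Fin R → ℤ) :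
    ∃ k : ℕ, 0 < k ∧ k < n ∧ ∃ v : Fin R → ℤ, ∀ i, (n : ℤ) ∣ k * a i - v i ∧
      (Q : ℤ) * |v i| < n ∧ (a i = 0 → v i = 0) := by
  classical
  have hn : (0 : ℤ) < n := by omega
  let f : Fin n → Fin R → Fin Q := fun k i =>
    ⟨(((k.val : ℤ) * a i % n) * Q / n).toNat, by
      have h1 := Int.emod_lt_of_pos ((k.val : ℤ) * a i) hn
      have h2 := Int.emod_nonneg ((k.val : ℤ) * a i) hn.ne'
      have h3 : ((k.val : ℤ) * a i % n) * Q / n < Q := by
        refine Int.ediv_lt_of_lt_mul hn ?_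
        nlinarith
      have h4 : 0 ≤ ((k.val : ℤ) * a i % n) * Q / n := Int.ediv_nonneg (by positivity) hn.le
      omega⟩
  obtain ⟨k, k', hne, he⟩ := Fintype.exists_ne_map_eq_of_card_lt f (by
    rw [Fintype.card_fun, Fintype.card_fin, Fintype.card_fin, Fintype.card_fin]; exact h)
  wlog hlt : k.val < k'.val generalizing k k'
  · exact this k' k hne.symm he.symm (by
      have : k.val ≠ k'.val := fun e => hne (Fin.ext e)
      omega)
  refine ⟨k'.val - k.val, by omega, by omega,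
    fun i => (k'.val : ℤ) * a i % n - (k.val : ℤ) * a i % n, fun i => ⟨?_, ?_, fun e => by simp [e]⟩⟩
  · refine ⟨(k'.val : ℤ) * a i / n - (k.val : ℤ) * a i / n, ?_⟩
    simp only []
    rw [Int.emod_def, Int.emod_def, Nat.cast_sub hlt.le]
    ring
  · have h1 := congrArg Fin.val (congrFun he i)
    simp only [f] at h1
    set x := (k.val : ℤ) * a i % n
    set y := (k'.val : ℤ) * a i % n
    have hx : 0 ≤ x * Q / n := Int.ediv_nonneg
      (mul_nonneg (Int.emod_nonneg _ hn.ne') (by positivity)) hn.le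
    have hy : 0 ≤ y * Q / n := Int.ediv_nonneg
      (mul_nonneg (Int.emod_nonneg _ hn.ne') (by positivity)) hn.le
    have h2 : x * Q / n = y * Q / n := by omega
    have h3 := Int.emod_add_mul_ediv (x * Q) n
    have h4 := Int.emod_add_mul_ediv (y * Q) n
    have h5 := Int.emod_lt_of_pos (x * Q) hn
    have h6 := Int.emod_lt_of_pos (y * Q) hn
    have h7 := Int.emod_nonneg (x * Q) hn.ne'
    have h8 := Int.emod_nonneg (y * Q) hn.ne'
    rw [h2] at h3
    rw [← abs_of_nonneg (Int.natCast_nonneg Q), ← abs_mul]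
    rw [abs_lt]
    constructor <;> nlinarith

variable {D : ChevalleyDatum} {T : Tab D} (G : T.Good)
include G

theorem exists_cochar {M₀ : List (List ℤ)} (hM₀ : T.chkSC M₀ = true) :
    ∃ B : ℕ, ∀ v : Fin D.rank → ℤ, ∃ w : Fin D.rank → ℤ,
      (∀ l : Fin D.rank, T.wrow (D.simple l) ⬝ᵥ w = v l) ∧
      ∀ b : ℤ, (∀ l, |v l| ≤ b) → ∀ r : Fin D.nroots, |T.wrow r.val ⬝ᵥ w| ≤ (B : ℤ) * b := by
  classical
  let M : Matrix (Fin D.rank) (Fin D.rank) ℤ := fun k j => (M₀.getD k.val []).getD j.val 0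
  let A : Matrix (Fin D.rank) (Fin D.rank) ℤ := fun j => T.wrow (D.simple j)
  have hMA : M * A = 1 := by
    have hM := hM₀
    simp only [chkSC, Bool.and_eq_true, allBelow_iff, decide_eq_true_eq] at hM
    ext k i
    have := hM.1 k k.isLt i i.isLt
    rw [list_sum_range] at this
    rw [Matrix.mul_apply, Matrix.one_apply]
    simp only [A, M, wrow]
    rw [this]
    simp [Fin.val_eq_val, eq_comm]
  have hAM : A * M = 1 := mul_eq_one_comm.mp hMA
  refine ⟨∑ r : Fin D.nroots, ∑ k, ∑ j, (T.wrow r.val k * M k j).natAbs,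
    fun v => ⟨M *ᵥ v, fun l => ?_, fun b hb r => ?_⟩⟩
  · show (A *ᵥ (M *ᵥ v)) l = v l
    rw [mulVec_mulVec, hAM, one_mulVec]
  · have h1 : T.wrow r.val ⬝ᵥ (M *ᵥ v) = ∑ k, ∑ j, T.wrow r.val k * M k j * v j := by
      simp only [dotProduct, mulVec, Finset.mul_sum, mul_assoc]
    rw [h1]
    refine (Finset.abs_sum_le_sum_abs _ _).trans ?_
    refine le_trans ?_ (mul_le_mul_of_nonneg_right (Nat.cast_le.mpr (Finset.single_le_sum
      (f := fun r : Fin D.nroots => ∑ k, ∑ j, (T.wrow r.val k * M k j).natAbs)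
      (fun _ _ => Nat.zero_le _) (Finset.mem_univ r))) ?_)
    · push_cast
      rw [Finset.sum_mul]
      refine Finset.sum_le_sum fun k _ => (Finset.abs_sum_le_sum_abs _ _).trans ?_
      rw [Finset.sum_mul]
      refine Finset.sum_le_sum fun j _ => ?_
      rw [abs_mul]
      exact mul_le_mul_of_nonneg_left (hb j) (abs_nonneg _)
    · rcases isEmpty_or_nonempty (Fin D.rank) with h | ⟨⟨l⟩⟩
      · exact absurd (G.exists_cor_ne_zero (F := ℚ) r.isLt) fun ⟨j, _⟩ => h.false j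
      · exact (abs_nonneg _).trans (hb l)

/-- Moving an exponent vector into the dominant cone of `J`. -/
theorem exists_dominant {J : Set ℕ} (w : Fin D.rank → ℤ) :
    ∃ L : List (Fin D.rank), (∀ j ∈ L, j.val ∈ J) ∧
      ∀ i : Fin D.rank, i.val ∈ J → 0 ≤ T.wrow (D.simple i) ⬝ᵥ (T.vM L *ᵥ w) := by
  classical
  let P : Finset (Fin D.nroots) := Finset.univ.filter fun s => s.val ∈ posJ T J
  let W : Finset (Equiv.Perm (Fin D.nroots)) :=
    Finset.univ.filter fun σ => σ ∈ G.full.WJ (jList D J)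
  let φ : Fin D.nroots → ℤ := fun s => T.wrow s.val ⬝ᵥ w
  obtain ⟨σ, hσ, hmax⟩ := W.exists_max_image (fun σ => ∑ s ∈ P, φ (σ s))
    ⟨1, Finset.mem_filter.mpr ⟨Finset.mem_univ _, one_mem _⟩⟩
  have hσW := (Finset.mem_filter.mp hσ).2
  obtain ⟨L, hL, hpw⟩ := G.exists_word_WJ (inv_mem hσW)
  have hval : ∀ s : Fin D.nroots, T.wrow s.val ⬝ᵥ (T.vM L *ᵥ w) = φ (σ s) := fun s => by
    have e := G.wrow_pw L (σ s)
    rw [show G.full.pw L (σ s) = s by rw [hpw]; simp] at e
    rw [dotProduct_mulVec, e]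
  refine ⟨L, fun j hj => (mem_jList.mp (hL j hj)).2, fun i hi => ?_⟩
  have e0 := hval (G.full.simp' i)
  change T.wrow (D.simple i) ⬝ᵥ (T.vM L *ᵥ w) = _ at e0
  rw [e0]
  by_contra hneg
  rw [not_le] at hneg
  have hm := hmax (σ * G.full.refl i) (Finset.mem_filter.mpr ⟨Finset.mem_univ _,
    mul_mem hσW (G.refl_mem (mem_jList.mpr ⟨i.isLt, hi⟩))⟩)
  have hα : G.full.simp' i ∈ P := Finset.mem_filter.mpr
    ⟨Finset.mem_univ _, G.pos_simp i, G.inJ_simple.mpr hi⟩
  have hmap : ∀ s ∈ P.erase (G.full.simp' i),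
      G.full.refl i s ∈ P.erase (G.full.simp' i) := fun s hs => by
    obtain ⟨h1, h2⟩ := Finset.mem_erase.mp hs
    obtain ⟨-, h3, h4⟩ := Finset.mem_filter.mp h2
    obtain ⟨h5, h6⟩ := G.refl_pos i h3 h1
    exact Finset.mem_erase.mpr ⟨h6, Finset.mem_filter.mpr
      ⟨Finset.mem_univ _, h5, G.inJ_reflT hi h4⟩⟩
  have hinv : ∀ s, G.full.refl i (G.full.refl i s) = s := fun s =>
    Fin.ext (G.full.reflT_spec i.isLt s.isLt).2.1
  have hswap : ∑ s ∈ P.erase (G.full.simp' i), φ (σ (G.full.refl i s)) =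
      ∑ s ∈ P.erase (G.full.simp' i), φ (σ s) :=
    Finset.sum_nbij' (fun s => G.full.refl i s) (fun s => G.full.refl i s) hmap hmap
      (fun s _ => hinv s) (fun s _ => hinv s) (fun s _ => rfl)
  have e1 := Finset.add_sum_erase P (fun s => φ (σ (G.full.refl i s))) hα
  have e2 := Finset.add_sum_erase P (fun s => φ (σ s)) hα
  have e3 : φ (σ (negF (G.full.simp' i))) = -φ (σ (G.full.simp' i)) := by
    simp only [φ]
    rw [G.negF_WJ hσW, wrow_negF G, neg_dotProduct]
  simp only [G.refl_simp, e3, hswap] at e1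
  simp only [Equiv.Perm.mul_apply] at hm
  omega

/-- The descent for an element with no commuting element of characteristic order. -/
theorem descend_toral (p : ℕ) [Fact p.Prime] {M₀ : List (List ℤ)}
    (hM₀ : T.chkSC M₀ = true) {lam : Fin D.rank → ℤ} (hlam : chkSep T lam) {J : Set ℕ}
    {i : Fin D.rank} (hi : i.val ∈ J) {m : ℕ} (hm : 0 < m) :
    ∃ C : ℕ, ∀ (K : Type) [Field K] [Fintype K] [CharP K p], C < Fintype.card K →
      ∀ x ∈ D.leviSubgroup K J, x ^ m = 1 →
        (∀ u ∈ D.leviSubgroup K J, x * u = u * x → orderOf u ≠ p) →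
        ∃ (F : Type) (_ : Field F) (_ : Fintype F) (f : K →+* F),
          ∃ a ∈ D.group F, ∃ J', Nat.card (posJ T J') < Nat.card (posJ T J) ∧
            a * glMap D f x * a⁻¹ ∈ D.leviSubgroup F J' := by
  classical
  obtain ⟨B, hB⟩ := exists_cochar G hM₀
  set N := Fintype.card (Equiv.Perm (Fin D.nroots))
  set Q := 2 * (B + 1) with hQdef
  set E := (N + Q ^ D.rank).factorial with hEdef
  have hE : E ≠ 0 := Nat.factorial_ne_zero _
  have hEN : ∀ r : ℕ, r.Prime → ¬ r ∣ E → ¬ r ∣ N := fun r hr hrE hd => hrE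
    (Nat.dvd_factorial hr.pos ((Nat.le_of_dvd Fintype.card_pos hd).trans (Nat.le_add_right _ _)))
  refine ⟨m ^ D.rank * indBound D E * (N + 2 * degBound T lam) + 1, ?_⟩
  intro K _ _ _ hbig x hx hxm hno
  obtain ⟨F, _, _, f, a, ha, c, l, hl, hne, hcomm⟩ :=
    exists_toral G p hM₀ hlam hi hE hEN hx hm hxm hno (by simp only [N] at hbig; omega)
  set x' := a * glMap D f x * a⁻¹
  have hx' : x' ∈ D.leviSubgroup F J :=
    mul_mem (mul_mem ha (glMap_levi G f hx)) (inv_mem ha)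
  let τ : Fin D.rank → Fˣ := fun j =>
    if j.val ∈ J then T.chi (F := F) (D.simple j) c else 1
  set n := orderOf τ with hn
  have hn0 : 0 < n := orderOf_pos τ
  have hnbig : Q ^ D.rank < n := by
    by_contra h
    refine hne ?_
    have hd : τ ^ E = 1 := orderOf_dvd_iff_pow_eq_one.mp
      (Nat.dvd_factorial hn0 (by omega))
    simpa [τ, hl] using congrFun hd l
  -- a generator of the values
  obtain ⟨g1, hg1⟩ := IsCyclic.exists_ofOrder_eq_natCard (α := Fˣ)
  have hnd : n ∣ orderOf g1 := by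
    rw [hg1]
    exact orderOf_dvd_of_pow_eq_one (funext fun j => pow_card_eq_one')
  set g := g1 ^ (orderOf g1 / n)
  have hg : orderOf g = n := orderOf_pow_orderOf_div (orderOf_pos g1).ne' hnd
  have hτ : ∀ j, ∃ b : ℤ, g ^ b = τ j ∧ (τ j = 1 → b = 0) := fun j => by
    by_cases h1 : τ j = 1
    · exact ⟨0, by simp [h1], fun _ => rfl⟩
    haveI : NeZero n := ⟨hn0.ne'⟩
    have hp : IsPrimitiveRoot (g : F) n := by
      rw [← hg, ← orderOf_units]
      exact IsPrimitiveRoot.orderOf (g : F)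
    obtain ⟨b, -, hb⟩ := hp.eq_pow_of_pow_eq_one (ξ := ((τ j : Fˣ) : F)) (by
      rw [← Units.val_pow_eq_pow_val, show τ j ^ n = 1 from congrFun (pow_orderOf_eq_one τ) j,
        Units.val_one])
    exact ⟨b, Units.ext (by rw [_root_.zpow_natCast, Units.val_pow_eq_pow_val]; exact hb),
      fun h => absurd h h1⟩
  choose b hb hb0 using hτ
  obtain ⟨k, hk0, hkn, v, hv⟩ := small_residues (Q := Q) (by omega) hnbig b
  obtain ⟨w, hw, hwb⟩ := hB v
  have hτk : ∀ j, τ j ^ k = g ^ v j := fun j => by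
    rw [← hb j, ← _root_.zpow_natCast, ← _root_.zpow_mul, mul_comm, ← mul_inv_eq_one,
      ← _root_.zpow_sub, ← orderOf_dvd_iff_zpow_eq_one, hg]
    exact (hv j).1
  -- the smallness
  have hsmall : ∀ r, T.InJ J r → 2 * |T.wrow r ⬝ᵥ w| < (n : ℤ) := fun r hr => by
    by_cases hB0 : (B : ℤ) = 0
    · have := hwb (n : ℤ) (fun j => by nlinarith [(hv j).2.1, abs_nonneg (v j)]) ⟨r, hr.1⟩
      simp only [hB0, zero_mul] at this
      omega
    have hBn : ∀ j, |v j| ≤ ((n : ℤ) - 1) / Q := fun j => by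
      rw [Int.le_ediv_iff_mul_le (by positivity)]
      nlinarith [(hv j).2.1]
    have h1 := hwb _ hBn ⟨r, hr.1⟩
    have h2 : (Q : ℤ) * (((n : ℤ) - 1) / Q) ≤ (n : ℤ) - 1 := Int.mul_ediv_self_le (by positivity)
    have h3 : (Q : ℤ) = 2 * ((B : ℤ) + 1) := by rw [hQdef]; push_cast; ring
    have h4 : (0 : ℤ) ≤ ((n : ℤ) - 1) / Q := Int.ediv_nonneg (by omega) (by positivity)
    nlinarith
  -- the torus element and its values
  have hc : ∀ r, T.InJ J r → T.chi (F := F) r (c ^ k) = g ^ (T.wrow r ⬝ᵥ w) := fun r hr => by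
    have h1 := chi_inJ G (c := c ^ k * (Good.expo g w)⁻¹) (fun j hj => by
      rw [map_mul, map_inv, mul_inv_eq_one, map_pow, Tab.Good.chi_expo, hw, ← hτk]
      simp [τ, hj]) hr
    rw [map_mul, map_inv, mul_inv_eq_one, Tab.Good.chi_expo] at h1
    exact h1
  have hcomm' : x' * T.hT F (c ^ k) = T.hT F (c ^ k) * x' := by
    rw [map_pow]
    exact (Commute.pow_right (hcomm : Commute x' (T.hT F c)) k).eq
  -- dominance
  obtain ⟨L, hL, hdom⟩ := exists_dominant G w
  set nL := G.full.nw F L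
  obtain ⟨d, hd⟩ := G.nw_hT (F := F) L (c ^ k)
  have hconj : nL * T.hT F (c ^ k) * nL⁻¹ = T.hT F d := mul_inv_eq_iff_eq_mul.mpr hd
  have hnL : nL ∈ D.leviSubgroup F J := nw_mem_levi G hL
  have hW := pw_mem_WJ G hL
  have hdval : ∀ r, T.InJ J r →
      T.chi (F := F) r d = g ^ (T.wrow r ⬝ᵥ (T.vM L *ᵥ w)) ∧
        2 * |T.wrow r ⬝ᵥ (T.vM L *ᵥ w)| < (n : ℤ) := fun r hr => by
    set s := (G.full.pw L).symm ⟨r, hr.1⟩
    have hs : T.InJ J s.val := by
      obtain ⟨L', hL', hpw'⟩ := G.exists_word_WJ (inv_mem hW)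
      have := inJ_pw G (L := L') (hpw' ▸ inv_mem hW) (s := ⟨r, hr.1⟩) hr
      rwa [hpw'] at this
    have hrs : G.full.pw L s = ⟨r, hr.1⟩ := Equiv.apply_symm_apply _ _
    have e : T.wrow r ⬝ᵥ (T.vM L *ᵥ w) = T.wrow s.val ⬝ᵥ w := by
      rw [dotProduct_mulVec, ← G.wrow_pw L s, hrs]
    have e2 := G.chi_conj (G.rootAct_nw L) hconj s
    rw [hrs] at e2
    rw [e, ← hc s.val hs]
    exact ⟨e2, hsmall _ hs⟩
  have hy : nL * x' * nL⁻¹ ∈ D.leviSubgroup F J :=
    mul_mem (mul_mem hnL hx') (inv_mem hnL)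
  have hyc : nL * x' * nL⁻¹ * T.hT F d = T.hT F d * (nL * x' * nL⁻¹) := by
    rw [← hconj, conj_mul, conj_mul, hcomm']
  have hmem := cent_levi G hM₀ (J := J) (g := g) hdom
    (fun r hr => by rw [hg]; exact (hdval r hr).2) (fun r hr => (hdval r hr).1) hy hyc
  refine ⟨F, inferInstance, inferInstance, f, nL * a,
    mul_mem (levi_le_group G J hnL) (levi_le_group G J ha), zeroJ T J (T.vM L *ᵥ w), ?_, ?_⟩
  · by_contra hge
    have hz : ∀ j : Fin D.rank, j.val ∈ J → T.wrow (D.simple j) ⬝ᵥ (T.vM L *ᵥ w) = 0 :=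
      fun j hj => by
        by_contra h0
        exact hge (posJ_zeroJ_lt G hj h0)
    have hd1 : ∀ r, T.InJ J r → T.chi (F := F) r d = 1 := fun r hr =>
      chi_inJ G (fun j hj => by
        rw [(hdval _ (G.inJ_simple.mpr hj)).1, hz j hj, _root_.zpow_zero]) hr
    have hτ1 : τ ^ k = 1 := funext fun j => by
      show τ j ^ k = 1
      by_cases hj : j.val ∈ J
      · have hr := inJ_pw G hW (s := G.full.simp' j) (G.inJ_simple.mpr hj)
        have e2 := G.chi_conj (G.rootAct_nw L) hconj (G.full.simp' j)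
        rw [hd1 _ hr] at e2
        rw [show τ j = T.chi (F := F) (D.simple j) c by simp [τ, hj], ← map_pow]
        exact e2.symm
      · simp [τ, hj]
    exact absurd (Nat.le_of_dvd hk0 (orderOf_dvd_of_pow_eq_one hτ1)) (by omega)
  · rwa [show nL * a * glMap D f x * (nL * a)⁻¹ = nL * x' * nL⁻¹ by simp only [x']; group]

end CfsgLib.E8Three
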